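import Mathlib.Algebra.Category.ModuleCat.Basic
import Mathlib.CategoryTheory.ObjectProperty.Basic
import Mathlib.CategoryTheory.MorphismProperty.Composition
import Mathlib.LinearAlgebra.Span.Basic
import Groth.Agent.ResProp.EF.K894.LL

/-!
# GEN: from invariant classes to all classes by finite sums (helper868, 17670 (B); helper60, 17756)

`span_eq_top`: a module `V` over `P` with a finite filtration `F` by submodules, each graded piece being generated
by elements which lift to elements of `I`, is generated by `I`.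
`span_eq_top_of_gr`: the same, with graded pieces modules over a quotient `D` of `P` generated by their invariants.
`HitBy`, `hitSub`: the hit elements form a submodule.
`gen`: if all elements of generating sets `I Y` are hit, then all elements are hit (finite sums).
`gen_LL`: hit elements are killed by good maps.
-/

set_option autoImplicit false

universe w w' v u t

open CategoryTheory CategoryTheory.Limits

namespace Groth.Agent.ResProp.EF.K566

section Filtration

variable {P V : Type*} [Ring P] [AddCommGroup V] [Module P V]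

/-- a filtered module whose graded pieces are generated by elements liftable to `I` is generated by `I` -/
theorem span_eq_top (F : ℕ → Submodule P V) (h0 : F 0 = ⊤) (m : ℕ) (hm : F m = ⊥) (I : Set V)
    (step : ∀ n < m, ∀ z ∈ F n, ∃ w ∈ Submodule.span P I, z - w ∈ F (n + 1)) :
    Submodule.span P I = ⊤ := by
  have key : ∀ k, k ≤ m → ∀ z ∈ F (m - k), z ∈ Submodule.span P I := by
    intro k
    induction k with
    | zero =>
      intro _ z hz
      rw [Nat.sub_zero, hm, Submodule.mem_bot] at hz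
      rw [hz]; exact zero_mem _
    | succ k ih =>
      intro hk z hz
      obtain ⟨w, hw, hzw⟩ := step (m - (k + 1)) (by omega) z hz
      have e : m - (k + 1) + 1 = m - k := by omega
      rw [e] at hzw
      have := add_mem (ih (by omega) _ hzw) hw
      rwa [sub_add_cancel] at this
  refine eq_top_iff.2 fun z _ => key m le_rfl z ?_
  rw [Nat.sub_self, h0]; trivial

/-- the same with graded pieces `N n` (modules over a quotient `D` of `P`), generated by `J n`, each element of `J n`
being liftable to an element of `F n ∩ I` -/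
theorem span_eq_top_of_gr {D : Type*} [Ring D] (σ : P →+* D) (hσ : Function.Surjective σ)
    (F : ℕ → Submodule P V) (h0 : F 0 = ⊤) (m : ℕ) (hm : F m = ⊥) (I : Set V)
    (N : ℕ → Type*) [∀ n, AddCommGroup (N n)] [∀ n, Module D (N n)] (q : ∀ n, F n →+ N n)
    (hq : ∀ n (p : P) (x : F n), q n (p • x) = σ p • q n x)
    (hker : ∀ n < m, ∀ x : F n, q n x = 0 → (x : V) ∈ F (n + 1)) (J : ∀ n, Set (N n))
    (hJ : ∀ n < m, Submodule.span D (J n) = ⊤)
    (lift : ∀ n < m, ∀ y ∈ J n, ∃ x : F n, (x : V) ∈ I ∧ q n x = y) :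
    Submodule.span P I = ⊤ := by
  refine span_eq_top F h0 m hm I fun n hn z hz => ?_
  -- every element of `N n` is the image of an element of `F n ∩ span I`
  have key : ∀ y : N n, ∃ x : F n, (x : V) ∈ Submodule.span P I ∧ q n x = y := by
    intro y
    have hy : y ∈ Submodule.span D (J n) := by rw [hJ n hn]; trivial
    induction hy using Submodule.span_induction with
    | mem y hy =>
      obtain ⟨x, hx, h⟩ := lift n hn y hy
      exact ⟨x, Submodule.subset_span hx, h⟩
    | zero => exact ⟨0, zero_mem _, map_zero _⟩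
    | add y y' _ _ h h' =>
      obtain ⟨x, hx, rfl⟩ := h
      obtain ⟨x', hx', rfl⟩ := h'
      exact ⟨x + x', add_mem hx hx', map_add _ _ _⟩
    | smul d y _ h =>
      obtain ⟨x, hx, rfl⟩ := h
      obtain ⟨p, rfl⟩ := hσ d
      exact ⟨p • x, Submodule.smul_mem _ _ hx, hq n p x⟩
  obtain ⟨x, hx, h⟩ := key (q n ⟨z, hz⟩)
  refine ⟨x, hx, ?_⟩
  exact hker n hn (⟨z, hz⟩ - x) (by rw [map_sub, h, sub_self])

end Filtration

section Hit

variable {C : Type t} [Category.{v} C] {P : Type w'} [Ring P] (V : C ⥤ ModuleCat.{w} P) (TT : ObjectProperty C)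

/-- `z` is hit by an object of the class `TT` -/
def HitBy {Y : C} (z : V.obj Y) : Prop :=
  ∃ (T : C) (f : T ⟶ Y) (t : V.obj T), TT T ∧ (V.map f).hom t = z

variable {V TT}

/-- the hit elements form a submodule -/
def hitSub [HasBinaryCoproducts C] (h0 : ∃ T, TT T ∧ Nonempty (∀ Y, T ⟶ Y))
    (hadd : ∀ T T', TT T → TT T' → TT (T ⨿ T')) (Y : C) : Submodule P (V.obj Y) where
  carrier := {z | HitBy V TT z}
  zero_mem' := by
    obtain ⟨T, hT, ⟨i⟩⟩ := h0
    exact ⟨T, i Y, 0, hT, map_zero _⟩
  add_mem' := by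
    rintro z z' ⟨T, f, s, hT, rfl⟩ ⟨T', f', s', hT', rfl⟩
    refine ⟨T ⨿ T', coprod.desc f f', (V.map coprod.inl).hom s + (V.map coprod.inr).hom s', hadd _ _ hT hT', ?_⟩
    rw [map_add, ← LinearMap.comp_apply, ← LinearMap.comp_apply, ← ModuleCat.hom_comp, ← ModuleCat.hom_comp,
      ← V.map_comp, ← V.map_comp, coprod.inl_desc, coprod.inr_desc]
  smul_mem' := by
    rintro p z ⟨T, f, s, hT, rfl⟩
    exact ⟨T, f, p • s, hT, map_smul _ _ _⟩

/-- **GEN**: if all elements of generating sets are hit then all elements are hit. -/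
theorem gen [HasBinaryCoproducts C] (h0 : ∃ T, TT T ∧ Nonempty (∀ Y, T ⟶ Y))
    (hadd : ∀ T T', TT T → TT T' → TT (T ⨿ T')) {Y : C} (I : Set (V.obj Y)) (hI : Submodule.span P I = ⊤)
    (hit : ∀ z ∈ I, HitBy V TT z) (z : V.obj Y) : HitBy V TT z := by
  have h : Submodule.span P I ≤ hitSub (V := V) h0 hadd Y := Submodule.span_le.2 hit
  rw [hI] at h
  exact h (Submodule.mem_top (x := z))

/-- **GEN** with zero objects -/
theorem gen' [HasBinaryCoproducts C] [HasZeroObject C] (h0 : ∀ T : C, IsZero T → TT T)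
    (hadd : ∀ T T', TT T → TT T' → TT (T ⨿ T')) {Y : C} (I : Set (V.obj Y)) (hI : Submodule.span P I = ⊤)
    (hit : ∀ z ∈ I, HitBy V TT z) (z : V.obj Y) : HitBy V TT z := by
  obtain ⟨Z, hZ⟩ := HasZeroObject.zero (C := C)
  exact gen ⟨Z, h0 Z hZ, ⟨fun Y => hZ.to_ Y⟩⟩ hadd I hI hit z

/-- hit elements are killed by good maps, if `Y ⟶ cone (T ⟶ Y)` is good for `T` in the class `TT`:
`hc` gives for each `f : T ⟶ Y` a good map `c` with `V (f ≫ c) = 0`. -/
theorem LL_of_hit (good : MorphismProperty C)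
    (hc : ∀ {T Y : C} (f : T ⟶ Y), TT T → ∃ (Y' : C) (c : Y ⟶ Y'), good c ∧ V.map (f ≫ c) = 0)
    (H : ∀ (Y : C) (z : V.obj Y), HitBy V TT z) : K894.LL good V := by
  intro Y z
  obtain ⟨T, f, s, hT, rfl⟩ := H Y z
  obtain ⟨Y', c, hc, h⟩ := hc f hT
  refine ⟨Y', c, hc, ?_⟩
  rw [← LinearMap.comp_apply, ← ModuleCat.hom_comp, ← V.map_comp, h]
  rfl

/-- change of the ring acting -/
theorem hitBy_iff_of_forget {P' : Type*} [Ring P'] {V' : C ⥤ ModuleCat.{w} P'}
    (e : ∀ Y, V'.obj Y ≃+ V.obj Y) (he : ∀ {Y Y'} (f : Y ⟶ Y') (z : V'.obj Y),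
      e Y' ((V'.map f).hom z) = (V.map f).hom (e Y z)) {Y : C} (z : V'.obj Y) :
    HitBy V' TT z ↔ HitBy V TT (e Y z) := by
  constructor
  · rintro ⟨T, f, s, hT, rfl⟩
    exact ⟨T, f, e T s, hT, (he f s).symm⟩
  · rintro ⟨T, f, s, hT, h⟩
    refine ⟨T, f, (e T).symm s, hT, (e Y).injective ?_⟩
    rw [he, AddEquiv.apply_symm_apply, h]

end Hit

end Groth.Agent.ResProp.EF.K566
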