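import Groth.Agent.ResProp.EF.K566.GSmall
import Mathlib.AlgebraicTopology.AlternatingFaceMapComplex
import Mathlib.Algebra.Category.Grp.Preadditive

/-!
# Small objects on the `Γ`-side (c4), part 2: pure and small objects, closure, invariants
-/

set_option autoImplicit false
set_option linter.dupNamespace false
set_option linter.style.haveILetI false

open CategoryTheory Opposite

namespace Groth.Agent.ResProp.EF.K566

open K784.BC K784.PM EF56 K477 Groth.Agent.ResProp.EF.K741

universe u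

variable {A : NFᵒᵖ ⥤ CommRingCat.{u}} {P : Type u} [CommRing P] [Algebra (A.obj (op ⟨0⟩)) P]

section Defs

variable {D : NFᵒᵖ ⥤ CommRingCat.{u}} (j : A ⟶ D) (π : P →+* D.obj (op ⟨0⟩))

/-- pure objects: `(D, Γ)`-modules, `P` acting through `π` -/
structure GPure (X : GObj A P) where
  md : ∀ a : NF, Module (D.obj (op a)) (X.M.obj a)
  tower : ∀ (a : NF) (r : A.obj (op a)) (m : X.M.obj a), (md a).smul ((j.app (op a)).hom r) m = r • m
  map_smul : ∀ {a b : NF} (φ : a ⟶ b) (d : D.obj (op b)) (m : X.M.obj b),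
    X.M.map φ ((md b).smul d m) = (md a).smul (rg D φ d) (X.M.map φ m)
  act : ∀ (q : P) (m : X.M.obj ⟨0⟩), q • m = (md ⟨0⟩).smul (π q) m

/-- small objects: finite successive extensions of pure ones -/
inductive GSmall : GObj A P → Prop
  | zero (X : GObj A P) : Subsingleton (X.M.obj ⟨0⟩) → GSmall X
  | pure (X : GObj A P) : Nonempty (GPure j π X) → GSmall X
  | ext (X' X X'' : GObj A P) (i : GHom X' X) (q : GHom X X'') :
      Function.Injective (i.f ⟨0⟩) → Function.Exact (i.f ⟨0⟩) (q.f ⟨0⟩) → Function.Surjective (q.f ⟨0⟩) →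
      GSmall X' → GSmall X'' → GSmall X

end Defs

variable {D : NFᵒᵖ ⥤ CommRingCat.{u}} {j : A ⟶ D} {π : P →+* D.obj (op ⟨0⟩)}

namespace GPure

variable {X : GObj A P} (hX : GPure j π X)

/-- the presheaf of modules over `D` -/
@[reducible] def pmD : PM.{u} D where
  obj := X.M.obj
  grp := X.M.grp
  mod := hX.md
  map φ := X.M.map φ
  map_smul φ r x := hX.map_smul φ r x
  map_id := X.M.map_id
  map_comp := X.M.map_comp

theorem pmD_cart (hj : CartHom j) : hX.pmD.Cart := fun a b φ => by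
  letI := hX.md a
  letI := hX.md b
  exact IsBC.to_po (hj φ) (M := X.M.obj b) (N := X.M.obj a) (fun r x => (hX.tower b r x).symm)
    (fun r x => (hX.tower a r x).symm) (f := X.M.map φ) (fun r x => hX.map_smul φ r x) (X.cart φ)

/-- subfamilies are stable under `D` -/
theorem smul_mem (hj : CartHom j) (hπ : Function.Surjective π) (S : GSub X) (a : NF) (d : D.obj (op a))
    (m : X.M.obj a) (hm : m ∈ S.L a) : (hX.md a).smul d m ∈ S.L a := by
  letI mda := hX.md a
  letI md0 := hX.md ⟨0⟩
  have e : ∀ (d : D.obj (op a)) (m : X.M.obj a), (hX.md a).smul d m = d • m := fun _ _ => rfl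
  rw [e]
  -- `D⟨a⟩` is spanned over `A⟨a⟩` by the image of `D⟨0⟩`
  have key : ∀ (d : D.obj (op a)), ∀ m ∈ S.L a, d • m ∈ S.L a := by
    intro d
    have hbc : letI : Module (A.obj (op ⟨0⟩)) (D.obj (op ⟨0⟩)) := Module.compHom _ (j.app (op ⟨0⟩)).hom
        letI : Module (A.obj (op a)) (D.obj (op a)) := Module.compHom _ (j.app (op a)).hom
        IsBC (rg A (pt a 0)) (rg D (pt a 0)).toAddMonoidHom := by
      letI : Module (A.obj (op ⟨0⟩)) (D.obj (op ⟨0⟩)) := Module.compHom _ (j.app (op ⟨0⟩)).hom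
      letI : Module (A.obj (op a)) (D.obj (op a)) := Module.compHom _ (j.app (op a)).hom
      exact IsBC.of_po (hj (pt a 0)) (M := D.obj (op ⟨0⟩)) (N := D.obj (op a)) (fun _ _ => rfl) (fun _ _ => rfl)
        (_root_.K741.RP.isBC_self (rg D (pt a 0)))
    letI i0 : Module (A.obj (op ⟨0⟩)) (D.obj (op ⟨0⟩)) := Module.compHom _ (j.app (op ⟨0⟩)).hom
    letI ia : Module (A.obj (op a)) (D.obj (op a)) := Module.compHom _ (j.app (op a)).hom
    have hbc' : IsBC (rg A (pt a 0)) (rg D (pt a 0)).toAddMonoidHom := hbc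
    induction d using hbc'.induction with
    | zero => intro m _; rw [zero_smul]; exact zero_mem _
    | map d =>
      intro m hm
      have h1 := S.gen a 0 m hm
      induction h1 using Submodule.span_induction with
      | mem x hx =>
        obtain ⟨m, hm', rfl⟩ := hx
        obtain ⟨q, rfl⟩ := hπ d
        have h2 : (rg D (pt a 0)).toAddMonoidHom (π q) • X.M.map (pt a 0) m = X.M.map (pt a 0) (q • m) := by
          rw [hX.act, hX.map_smul]
          rfl
        rw [h2]
        exact S.map_mem _ _ (S.smul_mem q m hm')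
      | zero => rw [smul_zero]; exact zero_mem _
      | add x y hx hy h1 h2 => 
        rw [smul_add]
        refine add_mem (h1 ?_) (h2 ?_)
        · rw [S.eq_span a 0]; exact hx
        · rw [S.eq_span a 0]; exact hy
      | smul r x hx h1 =>
        have h2 : ∀ (d : D.obj (op a)), d • (r • x) = r • (d • x) := by
          intro d
          rw [← hX.tower a r x, ← hX.tower a r (d • x), e, e, smul_comm]
        rw [h2]
        exact Submodule.smul_mem _ _ (h1 (by rw [S.eq_span a 0]; exact hx))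
    | smul r d hd =>
      intro m hm
      have h2 : (r • d) • m = r • (d • m) := by
        rw [← hX.tower a r (d • m), e]
        exact mul_smul ((j.app (op a)).hom r) d m
      rw [h2]
      exact Submodule.smul_mem _ _ (hd m hm)
    | add x y hx hy =>
      intro m hm
      rw [add_smul]
      exact add_mem (hx m hm) (hy m hm)
  exact key d m hm

include hX in
/-- subobjects of pure objects are pure -/
theorem sub (hA : GR A) (hj : CartHom j) (hπ : Function.Surjective π) {N : GObj A P} (i : GHom N X)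
    (h0 : Function.Injective (i.f ⟨0⟩)) : Nonempty (GPure j π N) := by
  have hi := i.inj hA h0
  have ex : ∀ (a : NF) (d : D.obj (op a)) (n : N.M.obj a), ∃ n', i.f a n' = (hX.md a).smul d (i.f a n) :=
    fun a d n => hX.smul_mem hj hπ (GSub.range i) a d (i.f a n) ⟨n, rfl⟩
  let sm : ∀ a : NF, SMul (D.obj (op a)) (N.M.obj a) := fun a => ⟨fun d n => (ex a d n).choose⟩
  let md : ∀ a : NF, Module (D.obj (op a)) (N.M.obj a) := fun a =>
    letI := hX.md a
    letI := sm a
    Function.Injective.module (D.obj (op a)) (i.f a).toAddMonoidHom (hi a) fun d n => (ex a d n).choose_spec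
  have spec : ∀ (a : NF) (d : D.obj (op a)) (n : N.M.obj a), i.f a ((md a).smul d n) = (hX.md a).smul d (i.f a n) :=
    fun a d n => (ex a d n).choose_spec
  refine ⟨⟨md, fun a r m => hi a ?_, fun {a b} φ d m => hi a ?_, fun q m => hi ⟨0⟩ ?_⟩⟩
  · rw [spec, hX.tower, LinearMap.map_smul]
  · rw [i.nat, spec, hX.map_smul, spec, i.nat]
  · rw [spec, ← hX.act, i.pl]

include hX in
/-- quotients of pure objects are pure -/
theorem quot (hA : GR A) (hj : CartHom j) (hπ : Function.Surjective π) {Q : GObj A P} (g : GHom X Q)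
    (h0 : Function.Surjective (g.f ⟨0⟩)) : Nonempty (GPure j π Q) := by
  have hs := g.surj h0
  have key : ∀ (a : NF) (d : D.obj (op a)) (m m' : X.M.obj a), g.f a m = g.f a m' →
      g.f a ((hX.md a).smul d m) = g.f a ((hX.md a).smul d m') := by
    intro a d m m' e
    letI := hX.md a
    have h1 : m - m' ∈ (GSub.ker g hA).L a := by
      change g.f a (m - m') = 0
      rw [map_sub, e, sub_self]
    have h2 : g.f a ((hX.md a).smul d (m - m')) = 0 := hX.smul_mem hj hπ (GSub.ker g hA) a d _ h1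
    have h3 : (hX.md a).smul d (m - m') = (hX.md a).smul d m - (hX.md a).smul d m' := smul_sub d m m'
    rw [h3, map_sub, sub_eq_zero] at h2
    exact h2
  let sm : ∀ a : NF, SMul (D.obj (op a)) (Q.M.obj a) := fun a =>
    ⟨fun d y => g.f a ((hX.md a).smul d (hs a y).choose)⟩
  have spec' : ∀ (a : NF) (d : D.obj (op a)) (m : X.M.obj a),
      g.f a ((hX.md a).smul d m) = (sm a).smul d (g.f a m) := fun a d m =>
    key a d _ _ (hs a (g.f a m)).choose_spec.symm
  let md : ∀ a : NF, Module (D.obj (op a)) (Q.M.obj a) := fun a =>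
    letI := hX.md a
    letI := sm a
    Function.Surjective.module (D.obj (op a)) (g.f a).toAddMonoidHom (hs a) fun d m => spec' a d m
  have spec : ∀ (a : NF) (d : D.obj (op a)) (m : X.M.obj a), (md a).smul d (g.f a m) = g.f a ((hX.md a).smul d m) :=
    fun a d m => (spec' a d m).symm
  refine ⟨⟨md, fun a r m => ?_, fun {a b} φ d m => ?_, fun q m => ?_⟩⟩
  · obtain ⟨m, rfl⟩ := hs a m
    rw [spec, hX.tower, LinearMap.map_smul]
  · obtain ⟨m, rfl⟩ := hs b m
    rw [spec, ← g.nat, hX.map_smul, ← g.nat, spec]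
  · obtain ⟨m, rfl⟩ := hs ⟨0⟩ m
    rw [spec, ← hX.act, g.pl]

include hX in
/-- positive cobar cohomology of pure objects vanishes -/
theorem exact_cob {C : Type u} [CommRing C] (hA : GR A) (hj : CartHom j) (G : Gal D C) (n : ℕ) (x : X.M.obj ⟨n + 1⟩)
    (hx : cob X.M (n + 1) x = 0) : ∃ y : X.M.obj ⟨n⟩, cob X.M n y = x :=
  G.exact (K940.gr_of_cartHom hj hA) hX.pmD (hX.pmD_cart hj) n x hx

include hX in
/-- pure objects are generated over `P` by their invariants -/
theorem span_inv {C : Type u} [CommRing C] (hA : GR A) (hj : CartHom j) (hπ : Function.Surjective π) (G : Gal D C) :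
    Submodule.span P {x : X.M.obj ⟨0⟩ | cob X.M 0 x = 0} = ⊤ := by
  letI := hX.md ⟨0⟩
  have h := G.span_co (K940.gr_of_cartHom hj hA) hX.pmD (hX.pmD_cart hj)
  rw [eq_top_iff]
  rintro x -
  have hx : x ∈ Submodule.span (D.obj (op ⟨0⟩)) {x : X.M.obj ⟨0⟩ | cob X.M 0 x = 0} := by
    have : x ∈ (⊤ : Submodule (D.obj (op ⟨0⟩)) (X.M.obj ⟨0⟩)) := trivial
    rw [← h] at this
    exact this
  induction hx using Submodule.span_induction with
  | mem x hx => exact Submodule.subset_span hx
  | zero => exact zero_mem _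
  | add x y _ _ hx hy => exact add_mem hx hy
  | smul d x _ hx =>
    obtain ⟨q, rfl⟩ := hπ d
    have : π q • x = q • x := (hX.act q x).symm
    rw [this]
    exact Submodule.smul_mem _ _ hx

end GPure

/-! ### `cob ∘ cob = 0` -/

/-- the cosimplicial group of a presheaf of modules -/
def cosimp (F : PM.{u} A) : CosimplicialObject AddCommGrpCat.{u} where
  obj m := AddCommGrpCat.of (F.obj ⟨m.len⟩)
  map {m m'} α := AddCommGrpCat.ofHom (F.map (show (⟨m'.len⟩ : NF) ⟶ ⟨m.len⟩ from
    (α.toOrderHom : Fin (m.len + 1) → Fin (m'.len + 1))))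
  map_id m := by
    ext x
    exact F.map_id _ x
  map_comp {m m' m''} α β := by
    ext x
    exact F.map_comp (show (⟨m''.len⟩ : NF) ⟶ ⟨m'.len⟩ from (β.toOrderHom : Fin (m'.len + 1) → Fin (m''.len + 1)))
      (show (⟨m'.len⟩ : NF) ⟶ ⟨m.len⟩ from (α.toOrderHom : Fin (m.len + 1) → Fin (m'.len + 1))) x

theorem objD_cosimp (F : PM.{u} A) (n : ℕ) (x : F.obj ⟨n⟩) :
    (AlgebraicTopology.AlternatingCofaceMapComplex.objD (cosimp F) n).hom x = cob F n x := by
  rw [cob_apply]
  simp only [AlgebraicTopology.AlternatingCofaceMapComplex.objD]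
  have : ∀ (s : Finset (Fin (n + 2))), (∑ i ∈ s, (-1 : ℤ) ^ (i : ℕ) • (cosimp F).δ i).hom x =
      ∑ i ∈ s, (-1 : ℤ) ^ (i : ℕ) • F.map (del n i) x := by
    intro s
    induction s using Finset.induction_on with
    | empty => rfl
    | insert i s hi ih =>
      rw [Finset.sum_insert hi, Finset.sum_insert hi, ← ih]
      rfl
  exact this Finset.univ

theorem cob_cob (F : PM.{u} A) (n : ℕ) (x : F.obj ⟨n⟩) : cob F (n + 1) (cob F n x) = 0 := by
  have h := AlgebraicTopology.AlternatingCofaceMapComplex.d_squared (cosimp F) n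
  have h2 : (AlgebraicTopology.AlternatingCofaceMapComplex.objD (cosimp F) (n + 1)).hom
      ((AlgebraicTopology.AlternatingCofaceMapComplex.objD (cosimp F) n).hom x) = 0 :=
    congrArg (fun f => f.hom x) h
  have h3 := objD_cosimp F n x
  have h4 := objD_cosimp F (n + 1) (cob F n x)
  rw [← h4]
  exact (congrArg (fun y => (AlgebraicTopology.AlternatingCofaceMapComplex.objD (cosimp F) (n + 1)).hom y) h3.symm).trans h2

namespace GSmall

variable (hA : GR A) (hj : CartHom j) (hπ : Function.Surjective π)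

include hA hj hπ

/-- **closed under subobjects** -/
theorem sub {X : GObj A P} (h : GSmall j π X) : ∀ {N : GObj A P} (i : GHom N X), Function.Injective (i.f ⟨0⟩) →
    GSmall j π N := by
  induction h with
  | zero X hX =>
    intro N i hi
    exact .zero N ⟨fun x y => hi (Subsingleton.elim _ _)⟩
  | pure X hX =>
    intro N i hi
    obtain ⟨hX⟩ := hX
    exact .pure N (hX.sub hA hj hπ i hi)
  | ext X' X X'' u q hu huq hq _ _ ih' ih'' =>
    intro N i hi
    let g := i.comp q
    let S := GSub.ker g hA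
    let T := GSub.range g
    have ex : ∀ a (m : (S.obj hA).M.obj a), ∃ m', u.f a m' = ((S.ι hA).comp i).f a m := fun a m => by
      have hm : q.f a (i.f a m.1) = 0 := m.2
      exact (GHom.exact hA u q huq a _).1 hm
    refine .ext (S.obj hA) N (T.obj hA) (S.ι hA) (T.corestrict hA g fun a m => ⟨m, rfl⟩) (S.ι_inj hA ⟨0⟩) ?_ ?_ ?_ ?_
    · intro m
      constructor
      · intro hm
        have : g.f ⟨0⟩ m = 0 := congrArg Subtype.val hm
        exact ⟨⟨m, this⟩, rfl⟩
      · rintro ⟨m, rfl⟩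
        exact Subtype.ext m.2
    · rintro ⟨_, m, rfl⟩
      exact ⟨m, rfl⟩
    · refine ih' (GHom.lift hA u hu ((S.ι hA).comp i) ex) ?_
      intro x y hxy
      have h1 := congrArg (u.f ⟨0⟩) hxy
      rw [GHom.lift_spec, GHom.lift_spec] at h1
      exact S.ι_inj hA ⟨0⟩ (hi h1)
    · exact ih'' (T.ι hA) (T.ι_inj hA ⟨0⟩)

/-- **closed under quotients** -/
theorem quot {X : GObj A P} (h : GSmall j π X) : ∀ {Q : GObj A P} (g : GHom X Q), Function.Surjective (g.f ⟨0⟩) →
    GSmall j π Q := by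
  induction h with
  | zero X hX =>
    intro Q g hg
    refine .zero Q ⟨fun x y => ?_⟩
    obtain ⟨x, rfl⟩ := hg x
    obtain ⟨y, rfl⟩ := hg y
    rw [Subsingleton.elim x y]
  | pure X hX =>
    intro Q g hg
    obtain ⟨hX⟩ := hX
    exact .pure Q (hX.quot hA hj hπ g hg)
  | ext X' X X'' u q hu huq hq _ _ ih' ih'' =>
    intro Q g hg
    let T := GSub.range (u.comp g)
    refine .ext (T.obj hA) Q T.quot (T.ι hA) T.π (T.ι_inj hA ⟨0⟩) ?_ (T.π_surj ⟨0⟩) ?_ ?_
    · intro m
      rw [T.π_eq_zero]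
      exact ⟨fun hm => ⟨⟨m, hm⟩, rfl⟩, fun ⟨m, hm⟩ => hm ▸ m.2⟩
    · refine ih' (T.corestrict hA (u.comp g) fun a m => ⟨m, rfl⟩) ?_
      rintro ⟨_, m, rfl⟩
      exact ⟨m, rfl⟩
    · have hk : ∀ a m, q.f a m = 0 → (g.comp T.π).f a m = 0 := by
        intro a m hm
        obtain ⟨m', rfl⟩ := (GHom.exact hA u q huq a m).1 hm
        rw [GHom.comp_f, T.π_eq_zero]
        exact ⟨m', rfl⟩
      refine ih'' (GHom.desc q hq (g.comp T.π) hk) ?_
      intro y
      obtain ⟨y, rfl⟩ := T.π_surj ⟨0⟩ y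
      obtain ⟨x, rfl⟩ := hg y
      exact ⟨q.f ⟨0⟩ x, GHom.desc_spec q hq _ hk ⟨0⟩ x⟩

/-- isomorphisms -/
theorem of_bijective {X Y : GObj A P} (h : GSmall j π X) (g : GHom X Y) (hg : Function.Bijective (g.f ⟨0⟩)) :
    GSmall j π Y := h.quot hA hj hπ g hg.2

/-- the middle of an exact sequence -/
theorem mid {X' X X'' : GObj A P} (h' : GSmall j π X') (h'' : GSmall j π X'') (u : GHom X' X) (q : GHom X X'')
    (huq : Function.Exact (u.f ⟨0⟩) (q.f ⟨0⟩)) : GSmall j π X := by
  let T := GSub.range u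
  let T' := GSub.range q
  refine .ext (T.obj hA) X (T'.obj hA) (T.ι hA) (T'.corestrict hA q fun a m => ⟨m, rfl⟩) (T.ι_inj hA ⟨0⟩) ?_ ?_
    (h'.quot hA hj hπ (T.corestrict hA u fun a m => ⟨m, rfl⟩) ?_) (h''.sub hA hj hπ (T'.ι hA) (T'.ι_inj hA ⟨0⟩))
  · intro m
    constructor
    · intro hm
      have h1 : q.f ⟨0⟩ m = 0 := congrArg Subtype.val hm
      obtain ⟨m', rfl⟩ := (huq m).1 h1
      exact ⟨⟨_, m', rfl⟩, rfl⟩
    · rintro ⟨⟨_, m, rfl⟩, rfl⟩
      exact Subtype.ext (huq.apply_apply_eq_zero m)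
  · rintro ⟨_, m, rfl⟩
    exact ⟨m, rfl⟩
  · rintro ⟨_, m, rfl⟩
    exact ⟨m, rfl⟩

/-- **(A)** for small objects: positive cobar cohomology vanishes, and the invariants generate over `P`. -/
theorem main {C : Type u} [CommRing C] (G : Gal D C) {X : GObj A P} (h : GSmall j π X) :
    (∀ (n : ℕ) (x : X.M.obj ⟨n + 1⟩), cob X.M (n + 1) x = 0 → ∃ y, cob X.M n y = x) ∧
      Submodule.span P {x : X.M.obj ⟨0⟩ | cob X.M 0 x = 0} = ⊤ := by
  induction h with
  | zero X hX =>
    have h1 := fun a => X.subsingleton hX a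
    refine ⟨fun n x _ => ⟨0, Subsingleton.elim _ _⟩, ?_⟩
    exact Subsingleton.elim _ _
  | pure X hX =>
    obtain ⟨hX⟩ := hX
    exact ⟨fun n x hx => hX.exact_cob hA hj G n x hx, hX.span_inv hA hj hπ G⟩
  | ext X' X X'' u q hu huq hq _ _ ih' ih'' =>
    have hex := GHom.exact hA u q huq
    have hinj := u.inj hA hu
    have hsur := q.surj hq
    -- a cocycle whose image is a coboundary is a coboundary
    have key : ∀ (n : ℕ) (x : X.M.obj ⟨n + 1⟩) (y'' : X''.M.obj ⟨n⟩), cob X.M (n + 1) x = 0 →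
        cob X''.M n y'' = q.f _ x → ∃ (y : X.M.obj ⟨n⟩), cob X.M n y = x ∧ q.f _ y = y'' := by
      intro n x y'' hx hy
      obtain ⟨y, rfl⟩ := hsur ⟨n⟩ y''
      obtain ⟨x', hx'⟩ := (hex ⟨n + 1⟩ (x - cob X.M n y)).1 (by rw [map_sub, q.cob_f, hy, sub_self])
      have h1 : cob X'.M (n + 1) x' = 0 := hinj ⟨n + 2⟩ (by
        rw [u.cob_f, hx', map_sub, hx, cob_cob, sub_self, map_zero])
      obtain ⟨y', rfl⟩ := ih'.1 n x' h1
      refine ⟨y + u.f _ y', ?_, ?_⟩
      · rw [map_add, ← u.cob_f, hx', add_sub_cancel]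
      · rw [map_add, (hex ⟨n⟩).apply_apply_eq_zero, add_zero]
    refine ⟨fun n x hx => ?_, ?_⟩
    · obtain ⟨y'', hy⟩ := ih''.1 n (q.f _ x) (by rw [← q.cob_f, hx, map_zero])
      obtain ⟨y, hy, -⟩ := key n x y'' hx hy
      exact ⟨y, hy⟩
    · -- invariants of the quotient lift
      have lift : ∀ y'' : X''.M.obj ⟨0⟩, cob X''.M 0 y'' = 0 → ∃ y : X.M.obj ⟨0⟩, cob X.M 0 y = 0 ∧ q.f _ y = y'' := by
        intro y'' hy
        exact key 0 0 y'' (map_zero _) (by rw [hy, map_zero])
      rw [eq_top_iff]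
      rintro x -
      have h1 : q.f _ x ∈ Submodule.span P {x : X''.M.obj ⟨0⟩ | cob X''.M 0 x = 0} := by rw [ih''.2]; trivial
      have h2 : ∀ z ∈ Submodule.span P {x : X''.M.obj ⟨0⟩ | cob X''.M 0 x = 0},
          ∃ w ∈ Submodule.span P {x : X.M.obj ⟨0⟩ | cob X.M 0 x = 0}, q.f _ w = z := by
        intro z hz
        induction hz using Submodule.span_induction with
        | mem z hz =>
          obtain ⟨y, hy, rfl⟩ := lift z hz
          exact ⟨y, Submodule.subset_span hy, rfl⟩
        | zero => exact ⟨0, zero_mem _, map_zero _⟩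
        | add a b _ _ ha hb =>
          obtain ⟨a, ha, rfl⟩ := ha
          obtain ⟨b, hb, rfl⟩ := hb
          exact ⟨a + b, add_mem ha hb, map_add _ _ _⟩
        | smul p a _ ha =>
          obtain ⟨a, ha, rfl⟩ := ha
          exact ⟨p • a, Submodule.smul_mem _ _ ha, q.pl _ _⟩
      obtain ⟨w, hw, hwx⟩ := h2 _ h1
      obtain ⟨x', hx'⟩ := (hex ⟨0⟩ (x - w)).1 (by rw [map_sub, hwx, sub_self])
      have h3 : x' ∈ Submodule.span P {x : X'.M.obj ⟨0⟩ | cob X'.M 0 x = 0} := by rw [ih'.2]; trivial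
      have h4 : ∀ z ∈ Submodule.span P {x : X'.M.obj ⟨0⟩ | cob X'.M 0 x = 0},
          u.f _ z ∈ Submodule.span P {x : X.M.obj ⟨0⟩ | cob X.M 0 x = 0} := by
        intro z hz
        induction hz using Submodule.span_induction with
        | mem z hz => exact Submodule.subset_span (by
            change cob X.M 0 (u.f _ z) = 0
            rw [← u.cob_f]
            exact (congrArg _ hz).trans (map_zero _))
        | zero => rw [map_zero]; exact zero_mem _
        | add a b _ _ ha hb => rw [map_add]; exact add_mem ha hb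
        | smul p a _ ha => rw [u.pl]; exact Submodule.smul_mem _ _ ha
      have h5 := add_mem (h4 _ h3) hw
      rw [hx', sub_add_cancel] at h5
      exact h5

end GSmall

end Groth.Agent.ResProp.EF.K566
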