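import Groth.Agent.ResProp.EF.Arch
import Groth.Agent.ResProp.EF.K566.Small

/-!
# (c4): from `Arch.Small` (with the `E`-action) to `GSmall` (without)
-/

set_option autoImplicit false
set_option linter.dupNamespace false

open CategoryTheory Opposite TensorProduct

namespace Groth.Agent.ResProp.EF.K566

open K784.BC K784.PM EF56 K477 Arch Grp

universe u

variable {k : Type u} [CommRing k] {A : NFᵒᵖ ⥤ CommRingCat.{u}} [GRF k A] {E : Gp k}
  {P : Type u} [CommRing P] [Algebra (A.obj (op ⟨0⟩)) P]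

/-- forget the `E`-action -/
def toG (X : SObj k A E P) : GObj A P where
  M := X.M
  cart := X.cart
  pm := X.pm
  tw := X.tw

/-- forget the `E`-action -/
def toGHom {X X' : SObj k A E P} (g : X.Hom X') : GHom (toG X) (toG X') where
  f := g.f
  nat := g.nat
  pl := g.pl

variable {x : PrimeSpectrum (A.obj (op ⟨0⟩))} {c : CoverDatum k A x} {ι : c.H.O →ₐc[k] E.O}
  {π : P →ₐ[A.obj (op ⟨0⟩)] c.Y.D.obj (op ⟨0⟩)}

/-- **(C)** -/
theorem gsmall {X : SObj k A E P} (h : Small c ι π X) : GSmall c.Y.j (π : P →+* c.Y.D.obj (op ⟨0⟩)) (toG X) := by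
  induction h with
  | zero X hX => exact .zero _ hX
  | pure X hX =>
    obtain ⟨hX⟩ := hX
    exact .pure _ ⟨⟨hX.md, hX.tower, hX.map_smul, hX.act⟩⟩
  | ext X' X X'' i q hi hiq hq _ _ h' h'' => exact .ext _ _ _ (toGHom i) (toGHom q) hi hiq hq h' h''

end Groth.Agent.ResProp.EF.K566
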