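import Groth.Agent.ResProp.EF.K566.TensG
import Groth.Agent.ResProp.EF.K409.Th
import Groth.Agent.ResProp.EF.K911.TChart
import Groth.Agent.ResProp.EF.K517.CobSeam

/-!
# The smallness theory of helper409 for `Comod A` (c4)

`gobj M ρ h` : the object of `GObj A P` attached to a comodule `M` with an action `ρ` of `P` on the chart.
`smallTh` : `S M ρ := ∃ h : IsAct ρ, GSmall j π (gobj M ρ h)` is a `SmallTh` for the chart of `A` and its tensor product.
`acyc_of_small`, `eq_top_of_small` : the Galois step.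
-/

set_option autoImplicit false
set_option linter.dupNamespace false
set_option linter.style.haveILetI false
set_option backward.isDefEq.respectTransparency false

open CategoryTheory CategoryTheory.Limits Opposite TensorProduct MonoidalCategory

namespace Groth.Agent.ResProp.EF.K566

open K784.BC K784.PM EF56 K477 Groth.Agent.ResProp.EF.K741 Groth.Agent.ResProp.EF.K294
open Groth.Agent.PerfB.RingKFlat Groth.Agent.PerfB
open K409 (IsAct)

universe u

/-- the module of an action -/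
@[reducible] noncomputable def actMod {R : Type u} [CommRing R] {P : Type u} [CommRing P] [Algebra R P]
    {V : ModuleCat.{u} R} (ρ : P → (V ⟶ V)) (h : IsAct ρ) : Module P V where
  smul p v := (ρ p).hom v
  one_smul v := by
    change (ρ 1).hom v = v
    rw [h.one]
    rfl
  mul_smul p q v := by
    change (ρ (p * q)).hom v = (ρ p).hom ((ρ q).hom v)
    rw [mul_comm, h.mul]
    rfl
  smul_zero p := map_zero _
  smul_add p := map_add _
  add_smul p q v := by
    change (ρ (p + q)).hom v = (ρ p).hom v + (ρ q).hom v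
    rw [h.add]
    rfl
  zero_smul v := by
    change (ρ 0).hom v = 0
    have h0 := h.alg 0
    rw [map_zero, zero_smul] at h0
    rw [h0]
    rfl

theorem actMod_tower {R : Type u} [CommRing R] {P : Type u} [CommRing P] [Algebra R P]
    {V : ModuleCat.{u} R} (ρ : P → (V ⟶ V)) (h : IsAct ρ) : letI := actMod ρ h; IsScalarTower R P V :=
  letI := actMod ρ h
  ⟨fun r p v => by
    change (ρ (r • p)).hom v = r • (ρ p).hom v
    rw [Algebra.smul_def, h.mul, h.alg]
    change (ρ p).hom (r • v) = r • (ρ p).hom v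
    rw [map_smul]⟩

variable {A : NFᵒᵖ ⥤ CommRingCat.{u}} {P : Type u} [CommRing P] [Algebra (A.obj (op ⟨0⟩)) P]

/-- a comodule with an action of `P` on the chart -/
noncomputable def gobj (M : Comod A) (ρ : P → ((vst A).obj M ⟶ (vst A).obj M)) (h : IsAct ρ) : GObj A P :=
  letI md : Module P ((toPM M.obj).obj ⟨0⟩) := actMod (R := A.obj (op ⟨0⟩)) (V := (vst A).obj M) ρ h
  haveI tw : IsScalarTower (A.obj (op ⟨0⟩)) P ((toPM M.obj).obj ⟨0⟩) :=
    actMod_tower (R := A.obj (op ⟨0⟩)) (V := (vst A).obj M) ρ h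
  { M := toPM M.obj
    cart := M.property
    pm := md
    tw := tw }

theorem gobj_smul (M : Comod A) (ρ : P → ((vst A).obj M ⟶ (vst A).obj M)) (h : IsAct ρ) (p : P)
    (x : (gobj M ρ h).M.obj ⟨0⟩) : p • x = (ρ p).hom x := rfl

/-- equivariant maps -/
noncomputable def gmap {M N : Comod A} (f : M ⟶ N) {ρ : P → ((vst A).obj M ⟶ (vst A).obj M)} (h : IsAct ρ)
    {ρ' : P → ((vst A).obj N ⟶ (vst A).obj N)} (h' : IsAct ρ') (w : ∀ p, ρ p ≫ (vst A).map f = (vst A).map f ≫ ρ' p) :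
    GHom (gobj M ρ h) (gobj N ρ' h') where
  f a := K276.lin f.hom a
  nat φ m := K276.lin_map f.hom φ m
  pl p m := congrArg (fun g => g.hom m) (w p)

variable {D : NFᵒᵖ ⥤ CommRingCat.{u}} (j : A ⟶ D) (π : P →+* D.obj (op ⟨0⟩))

/-- small comodules with `P`-action -/
def Sm (M : Comod A) (ρ : P → ((vst A).obj M ⟶ (vst A).obj M)) : Prop := ∃ h : IsAct ρ, GSmall j π (gobj M ρ h)

variable {j π}

theorem isAct_of_isZero {R : Type u} [CommRing R] {P : Type u} [CommRing P] [Algebra R P] {V : ModuleCat.{u} R}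
    (hV : IsZero V) (ρ : P → (V ⟶ V)) : IsAct ρ where
  one := hV.eq_of_src _ _
  mul _ _ := hV.eq_of_src _ _
  add _ _ := hV.eq_of_src _ _
  alg _ := hV.eq_of_src _ _

theorem isAct_tens {R : Type u} [CommRing R] {P : Type u} [CommRing P] [Algebra R P] {V : ModuleCat.{u} R}
    (Y : ModuleCat.{u} R) (ρ : P → (V ⟶ V)) (h : IsAct ρ) : IsAct (fun p => Y ◁ ρ p) where
  one := by rw [h.one, MonoidalCategory.whiskerLeft_id]
  mul p q := by rw [h.mul, MonoidalCategory.whiskerLeft_comp]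
  add p q := by rw [h.add, MonoidalPreadditive.whiskerLeft_add]
  alg a := by rw [h.alg, MonoidalLinear.whiskerLeft_smul, MonoidalCategory.whiskerLeft_id]

/-- zero objects -/
theorem sm_zero (M : Comod A) (ρ : P → ((vst A).obj M ⟶ (vst A).obj M)) (hM : IsZero ((vst A).obj M)) : Sm j π M ρ := by
  refine ⟨isAct_of_isZero (R := A.obj (op ⟨0⟩)) (P := P) hM ρ, .zero _ ?_⟩
  exact ModuleCat.subsingleton_of_isZero hM

/-- the middle of an exact sequence -/
theorem sm_mid (hA : GR A) (hj : CartHom j) (hπ : Function.Surjective π) (M₁ M₂ M₃ : Comod A) (f : M₁ ⟶ M₂)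
    (g : M₂ ⟶ M₃) (ρ₁ : P → ((vst A).obj M₁ ⟶ (vst A).obj M₁)) (ρ₂ : P → ((vst A).obj M₂ ⟶ (vst A).obj M₂))
    (ρ₃ : P → ((vst A).obj M₃ ⟶ (vst A).obj M₃))
    (hex : Function.Exact ((vst A).map f).hom ((vst A).map g).hom)
    (h1 : ∀ p, ρ₁ p ≫ (vst A).map f = (vst A).map f ≫ ρ₂ p) (h2 : ∀ p, ρ₂ p ≫ (vst A).map g = (vst A).map g ≫ ρ₃ p)
    (ha : IsAct (A := A.obj (op ⟨0⟩)) ρ₂) (s1 : Sm j π M₁ ρ₁) (s3 : Sm j π M₃ ρ₃) : Sm j π M₂ ρ₂ := by
  obtain ⟨a1, s1⟩ := s1
  obtain ⟨a3, s3⟩ := s3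
  exact ⟨ha, GSmall.mid hA hj hπ s1 s3 (gmap f a1 ha h1) (gmap g ha a3 h2) hex⟩

/-- `Y ⊗ -` -/
theorem sm_tens (hA : GR A) (hj : CartHom j) (hπ : Function.Surjective π) (Y M : Comod A)
    (ρ : P → ((vst A).obj M ⟶ (vst A).obj M)) (s : Sm j π M ρ) :
    Sm j π (Y ⊗ M) (fun p => (vst A).obj Y ◁ ρ p) := by
  obtain ⟨a, s⟩ := s
  have hT := GSmall.tens (toPM Y.obj) Y.property hA hj hπ s
  refine ⟨isAct_tens (R := A.obj (op ⟨0⟩)) ((vst A).obj Y) ρ a, hT.of_bijective hA hj hπ
    (Y := gobj (Y ⊗ M) (fun p => (vst A).obj Y ◁ ρ p) (isAct_tens (R := A.obj (op ⟨0⟩)) ((vst A).obj Y) ρ a))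
    { f := fun a => LinearMap.id (M := (Y.obj.obj (op a) : Type u) ⊗[A.obj (op a)] (M.obj.obj (op a) : Type u))
      nat := fun {a b} φ m => (K911.idPM_map Y.obj M.obj φ m).symm
      pl := fun p m => rfl } Function.bijective_id⟩

/-- **the smallness theory of helper409 for `Comod A`** -/
noncomputable def smallTh (hA : GR A) (hj : CartHom j) (hπ : Function.Surjective π) :
    @K409.SmallTh (A.obj (op ⟨0⟩)) _ (Comod A) _ (K276.comodPkg hA).ab (K276.chart hA) P _ _
      (@K911.TChart.TC _ _ _ _ (K276.comodPkg hA).ab _ (K911.comodTChart hA))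
      (@K911.TChart.data _ _ _ _ (K276.comodPkg hA).ab _ (K911.comodTChart hA)) :=
  letI iab := (K276.comodPkg hA).ab
  { S := fun M ρ => Sm j π M ρ
    act := fun M ρ h => h.1
    zero := fun M ρ hM => sm_zero M ρ ((K276.chart hA).us.map_isZero hM)
    mid := fun M₁ M₂ M₃ f g w ρ₁ ρ₂ ρ₃ hex h1 h2 ha s1 s3 => by
      have hex' := hex.map (K276.chart hA).us
      exact sm_mid hA hj hπ M₁ M₂ M₃ f g ρ₁ ρ₂ ρ₃
        ((ShortComplex.ShortExact.moduleCat_exact_iff_function_exact _).1 hex') h1 h2 ha s1 s3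
    tens := fun Y M ρ s => sm_tens hA hj hπ Y M ρ s }

/-- **Galois step, acyclicity**: small comodules are acyclic for `RΓ` -/
theorem acyc_of_sm [hA : Fact (GR A)] (hj : CartHom j) (hπ : Function.Surjective π) {C : Type u} [CommRing C]
    (G : Gal D C) (M : Comod A) (ρ : P → ((vst A).obj M ⟶ (vst A).obj M)) (s : Sm j π M ρ) :
    K792.Acyc (K874.RG (K476.CobInst.cob A)) M := by
  obtain ⟨a, s⟩ := s
  exact K517.acyc_cob M fun n x hx => (s.main hA.out hj hπ G).1 n x hx

/-- **Galois step, generation**: additive subgroups stable under `P` which contain the invariants -/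
theorem eq_top_of_sm (hA : GR A) (hj : CartHom j) (hπ : Function.Surjective π) {C : Type u} [CommRing C]
    (G : Gal D C) (M : Comod A) (ρ : P → ((vst A).obj M ⟶ (vst A).obj M)) (s : Sm j π M ρ)
    (Z : AddSubgroup ((vst A).obj M)) (hinv : ∀ x : (toPM M.obj).obj ⟨0⟩, cob (toPM M.obj) 0 x = 0 → x ∈ Z)
    (hP : ∀ (q : P), ∀ x ∈ Z, (ρ q).hom x ∈ Z) : Z = ⊤ := by
  obtain ⟨a, s⟩ := s
  have h := (s.main hA hj hπ G).2
  rw [eq_top_iff]
  rintro x -
  have hx : x ∈ Submodule.span P {x : (gobj M ρ a).M.obj ⟨0⟩ | cob (gobj M ρ a).M 0 x = 0} := by rw [h]; trivial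
  induction hx using Submodule.span_induction with
  | mem x hx => exact hinv x hx
  | zero => exact zero_mem _
  | add x y _ _ hx hy => exact add_mem hx hy
  | smul q x _ hx => exact hP q x hx

/-- the same with the invariants of helper110 / helper517 -/
theorem eq_top_of_sm' [hA : Fact (GR A)] (hj : CartHom j) (hπ : Function.Surjective π) {C : Type u} [CommRing C]
    (G : Gal D C) (M : Comod A) (ρ : P → ((vst A).obj M ⟶ (vst A).obj M)) (s : Sm j π M ρ)
    (Z : AddSubgroup ((vst A).obj M))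
    (hinv : ∀ x, x ∈ K517.inv (K110.rgPrj (K476.CobInst.cob A)) M → (show (toPM M.obj).obj ⟨0⟩ from x) ∈ Z)
    (hP : ∀ (q : P), ∀ x ∈ Z, (ρ q).hom x ∈ Z) : Z = ⊤ :=
  eq_top_of_sm hA.out hj hπ G M ρ s Z (fun x hx => hinv x ((K517.mem_inv_cob_iff M x).2 hx)) hP

end Groth.Agent.ResProp.EF.K566
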