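import Mathlib.CategoryTheory.Functor.OfSequence
import Mathlib.CategoryTheory.Limits.HasLimits
import Mathlib.CategoryTheory.MorphismProperty.Composition
import Mathlib.Algebra.Category.ModuleCat.Abelian
import Mathlib.Algebra.Homology.HomotopyCategory.MappingCone
import Mathlib.Algebra.Homology.HomotopyCategory.Pretriangulated
import Mathlib.CategoryTheory.Limits.Shapes.Products

/-!
# DETECT: from invariant classes to all classes (helper60, 17088 (4))

`detect` (tower): if all the distinguished ("invariant") elements of every `hh Y` can be killed by one good map and if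
`inv Y = 0` implies `hh Y = 0`, then every element of `hh Y` is killed by a good map.
`killAll`: for complexes: the maps `Y ⟶ cone (⨁ T_ζ ⟶ Y)` kill all distinguished elements at once, if each one is
killed by some `Y ⟶ cone (T ⟶ Y)`.
-/

set_option autoImplicit false

universe w w' v u t

open CategoryTheory CategoryTheory.Limits

namespace Groth.Agent.ResProp.EF.K566

section Tower

variable {D : Type t} [Category.{v} D] [HasColimitsOfShape ℕ D]
variable {B : Type w'} [Ring B] (hh : D ⥤ ModuleCat.{w} B) (inv : ∀ Y : D, Set (hh.obj Y))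
variable (R : ObjectProperty D) (good : MorphismProperty D)

/-- the steps of the tower -/
structure IsTower (X : ℕ ⥤ D) : Prop where
  obj : ∀ n, R (X.obj n)
  step : ∀ n, good (X.map (homOfLE (Nat.le_add_right n 1)))

/-- **DETECT, the tower.** -/
theorem detect [good.IsMultiplicative]
    (kill : ∀ Y, R Y → ∃ (Y' : D) (f : Y ⟶ Y'), R Y' ∧ good f ∧ ∀ z ∈ inv Y, (hh.map f).hom z = 0)
    (colR : ∀ X : ℕ ⥤ D, IsTower R good X → R (colimit X))
    (colinv : ∀ X : ℕ ⥤ D, IsTower R good X → ∀ ζ ∈ inv (colimit X), ∃ (n : ℕ) (z : hh.obj (X.obj n)),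
      z ∈ inv (X.obj n) ∧ (hh.map (colimit.ι X n)).hom z = ζ)
    (colker : ∀ X : ℕ ⥤ D, IsTower R good X → ∀ (n : ℕ) (z : hh.obj (X.obj n)),
      (hh.map (colimit.ι X n)).hom z = 0 → ∃ (m : ℕ) (h : n ≤ m), (hh.map (X.map (homOfLE h))).hom z = 0)
    (faith : ∀ Y, R Y → (∀ ζ ∈ inv Y, ζ = 0) → ∀ z : hh.obj Y, z = 0)
    (Y : D) (hY : R Y) (z : hh.obj Y) :
    ∃ (Y' : D) (f : Y ⟶ Y'), R Y' ∧ good f ∧ (hh.map f).hom z = 0 := by
  choose nx fx hR hg hk using kill
  let S : ℕ → {Y : D // R Y} := fun n => Nat.rec ⟨Y, hY⟩ (fun _ Z => ⟨nx Z.1 Z.2, hR Z.1 Z.2⟩) n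
  let f : ∀ n, (S n).1 ⟶ (S (n + 1)).1 := fun n => fx (S n).1 (S n).2
  let X : ℕ ⥤ D := Functor.ofSequence (X := fun n => (S n).1) f
  have hstep : ∀ n, X.map (homOfLE (Nat.le_add_right n 1)) = f n :=
    fun n => Functor.ofSequence_map_homOfLE_succ (X := fun n => (S n).1) f n
  have hX : IsTower R good X := ⟨fun n => (S n).2, fun n => by rw [hstep]; exact hg _ (S n).2⟩
  have hgood : ∀ (n m : ℕ) (h : n ≤ m), good (X.map (homOfLE h)) := by
    intro n m h
    induction m, h using Nat.le_induction with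
    | base =>
      have : X.map (homOfLE (le_refl n)) = 𝟙 _ := X.map_id n
      rw [this]
      exact good.id_mem _
    | succ m h ih =>
      have : X.map (homOfLE (h.trans (Nat.le_add_right m 1))) =
          X.map (homOfLE h) ≫ X.map (homOfLE (Nat.le_add_right m 1)) := by
        rw [← X.map_comp]; rfl
      rw [this]
      exact good.comp_mem _ _ ih (hX.step m)
  have h0 : ∀ ζ ∈ inv (colimit X), ζ = 0 := by
    intro ζ hζ
    obtain ⟨n, z, hz, rfl⟩ := colinv X hX ζ hζ
    have h1 : (hh.map (X.map (homOfLE (Nat.le_add_right n 1)))).hom z = 0 := by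
      rw [hstep]; exact hk _ (S n).2 z hz
    have h2 : X.map (homOfLE (Nat.le_add_right n 1)) ≫ colimit.ι X (n + 1) = colimit.ι X n :=
      colimit.w X _
    rw [← h2, hh.map_comp, ModuleCat.hom_comp, LinearMap.comp_apply, h1, map_zero]
  have h1 := faith _ (colR X hX) h0 ((hh.map (colimit.ι X 0)).hom z)
  obtain ⟨m, hm, hz⟩ := colker X hX 0 z h1
  exact ⟨X.obj m, X.map (homOfLE hm), hX.obj m, hgood 0 m hm, hz⟩

end Tower

section Cone

variable {C : Type u} [Category.{v} C] [Abelian C] [HasCoproducts.{w} C]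
variable {B : Type w'} [Ring B] (hh : CochainComplex C ℤ ⥤ ModuleCat.{w} B)

open CochainComplex HomComplex

/-- the map `Y ⟶ cone φ` -/
noncomputable abbrev toCone {T Y : CochainComplex C ℤ} (φ : T ⟶ Y) : Y ⟶ mappingCone φ := mappingCone.inr φ

/-- the map of cones for `φ = g ≫ ψ` -/
noncomputable def coneMap {T T' Y : CochainComplex C ℤ} (g : T ⟶ T') (ψ : T' ⟶ Y) :
    mappingCone (g ≫ ψ) ⟶ mappingCone ψ :=
  mappingCone.map (g ≫ ψ) ψ g (𝟙 Y) (by simp)

omit [HasCoproducts.{w} C] in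
lemma toCone_coneMap {T T' Y : CochainComplex C ℤ} (g : T ⟶ T') (ψ : T' ⟶ Y) :
    toCone (g ≫ ψ) ≫ coneMap g ψ = toCone ψ := by
  simp [toCone, coneMap, mappingCone.map]

/-- **All distinguished elements are killed at once.** -/
theorem killAll (inv : ∀ Y : CochainComplex C ℤ, Set (hh.obj Y)) (TT : ObjectProperty (CochainComplex C ℤ))
    (hsum : ∀ (ι : Type w) (T : ι → CochainComplex C ℤ), (∀ i, TT (T i)) → TT (∐ T))
    (Y : CochainComplex C ℤ)
    (hit : ∀ ζ ∈ inv Y, ∃ (T : CochainComplex C ℤ) (φ : T ⟶ Y), TT T ∧ (hh.map (toCone φ)).hom ζ = 0) :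
    ∃ (T : CochainComplex C ℤ) (φ : T ⟶ Y), TT T ∧ ∀ ζ ∈ inv Y, (hh.map (toCone φ)).hom ζ = 0 := by
  choose! T φ hT hφ using hit
  let T' : (inv Y) → CochainComplex C ℤ := fun ζ => T ζ.1
  refine ⟨∐ T', Sigma.desc fun ζ => φ ζ.1, hsum _ _ fun ζ => hT ζ.1 ζ.2, fun ζ hζ => ?_⟩
  have e : φ ζ = Sigma.ι T' ⟨ζ, hζ⟩ ≫ Sigma.desc (fun ζ : inv Y => φ ζ.1) := by simp
  have h := hφ ζ hζ
  have h' : (hh.map (toCone (Sigma.ι T' ⟨ζ, hζ⟩ ≫ Sigma.desc (fun ζ : inv Y => φ ζ.1)))).hom ζ = 0 := by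
    rw [← e]; exact h
  rw [← toCone_coneMap (Sigma.ι T' ⟨ζ, hζ⟩) (Sigma.desc (fun ζ : inv Y => φ ζ.1)), hh.map_comp, ModuleCat.hom_comp,
    LinearMap.comp_apply, h', map_zero]

end Cone

end Groth.Agent.ResProp.EF.K566
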