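import Mathlib.LinearAlgebra.Span.Basic
import Groth.Agent.ResProp.EF.K566.Gen

/-!
# GEN-INST, elementary half: a filtered module with Galois graded pieces is generated by its invariants

`V₀ → V₁ → V₂`: the first terms of the cobar complex of a comodule, `V₀` a module over `P`, `F` a finite filtration
(by `P`-submodules in degree `0`), such that in the graded pieces `H¹ = 0` and `gr₀` is generated over `P` by its
invariants. Then `V₀` is generated over `P` by the invariants `ker (V₀ → V₁)`.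
-/

set_option autoImplicit false

namespace Groth.Agent.ResProp.EF.K566

variable {P V₀ V₁ V₂ : Type*} [Ring P] [AddCommGroup V₀] [Module P V₀] [AddCommGroup V₁] [AddCommGroup V₂]

/-- a filtered cobar complex in degrees `0, 1, 2` with Galois graded pieces -/
structure FiltGal (d₀ : V₀ →+ V₁) (d₁ : V₁ →+ V₂) (F₀ : ℕ → Submodule P V₀) (F₁ : ℕ → AddSubgroup V₁)
    (F₂ : ℕ → AddSubgroup V₂) (M : ℕ) : Prop where
  comp : ∀ x, d₁ (d₀ x) = 0
  top : F₀ 0 = ⊤
  bot₀ : F₀ M = ⊥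
  bot₁ : F₁ M = ⊥
  /-- `H¹(gr) = 0` -/
  h1 : ∀ m < M, ∀ x ∈ F₁ m, d₁ x ∈ F₂ (m + 1) → ∃ y ∈ F₀ m, x - d₀ y ∈ F₁ (m + 1)
  /-- `gr₀` is generated by its invariants -/
  gen : ∀ m < M, ∀ z ∈ F₀ m, ∃ w ∈ Submodule.span P {x | x ∈ F₀ m ∧ d₀ x ∈ F₁ (m + 1)}, z - w ∈ F₀ (m + 1)

namespace FiltGal

variable {d₀ : V₀ →+ V₁} {d₁ : V₁ →+ V₂} {F₀ : ℕ → Submodule P V₀} {F₁ : ℕ → AddSubgroup V₁}
  {F₂ : ℕ → AddSubgroup V₂} {M : ℕ} (h : FiltGal d₀ d₁ F₀ F₁ F₂ M)

include h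

/-- `H¹` of all steps of the filtration is zero -/
theorem h1_step (hanti : ∀ m, F₀ (m + 1) ≤ F₀ m) :
    ∀ k, k ≤ M → ∀ x ∈ F₁ (M - k), d₁ x = 0 → ∃ y ∈ F₀ (M - k), x = d₀ y := by
  intro k
  induction k with
  | zero =>
    intro _ x hx _
    rw [Nat.sub_zero, h.bot₁, AddSubgroup.mem_bot] at hx
    exact ⟨0, zero_mem _, by rw [hx, map_zero]⟩
  | succ k ih =>
    intro hk x hx hd
    have e : M - (k + 1) + 1 = M - k := by omega
    obtain ⟨y, hy, hxy⟩ := h.h1 (M - (k + 1)) (by omega) x hx (by rw [hd]; exact zero_mem _)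
    rw [e] at hxy
    obtain ⟨y', hy', hxy'⟩ := ih (by omega) _ hxy (by rw [map_sub, hd, h.comp, sub_zero])
    refine ⟨y + y', add_mem hy ?_, by rw [map_add, ← hxy']; abel⟩
    have := hanti (M - (k + 1))
    rw [e] at this
    exact this hy'

/-- invariants of graded pieces lift -/
theorem lift_inv (hanti : ∀ m, F₀ (m + 1) ≤ F₀ m) (m : ℕ) (hm : m < M) (x : V₀) (hx : x ∈ F₀ m)
    (hd : d₀ x ∈ F₁ (m + 1)) : ∃ x' ∈ F₀ m, d₀ x' = 0 ∧ x - x' ∈ F₀ (m + 1) := by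
  have e : M - (M - (m + 1)) = m + 1 := by omega
  obtain ⟨y, hy, hxy⟩ := h.h1_step hanti (M - (m + 1)) (by omega) (d₀ x) (by rw [e]; exact hd) (h.comp x)
  rw [e] at hy
  refine ⟨x - y, sub_mem hx (hanti m hy), by rw [map_sub, hxy, sub_self], ?_⟩
  rw [sub_sub_cancel]
  exact hy

/-- **`V₀` is generated by its invariants.** -/
theorem span_eq_top (hanti : ∀ m, F₀ (m + 1) ≤ F₀ m) : Submodule.span P {x : V₀ | d₀ x = 0} = ⊤ := by
  refine K566.span_eq_top F₀ h.top M h.bot₀ _ fun m hm z hz => ?_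
  obtain ⟨w, hw, hzw⟩ := h.gen m hm z hz
  -- replace `w` by a combination of invariants
  have key : ∀ w ∈ Submodule.span P {x | x ∈ F₀ m ∧ d₀ x ∈ F₁ (m + 1)},
      ∃ w' ∈ Submodule.span P {x : V₀ | d₀ x = 0}, w - w' ∈ F₀ (m + 1) := by
    intro w hw
    induction hw using Submodule.span_induction with
    | mem x hx =>
      obtain ⟨x', _, hd, hxx⟩ := h.lift_inv hanti m hm x hx.1 hx.2
      exact ⟨x', Submodule.subset_span hd, hxx⟩
    | zero => exact ⟨0, zero_mem _, by rw [sub_zero]; exact zero_mem _⟩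
    | add x y _ _ hx hy =>
      obtain ⟨x', hx', h1⟩ := hx
      obtain ⟨y', hy', h2⟩ := hy
      exact ⟨x' + y', add_mem hx' hy', by rw [add_sub_add_comm]; exact add_mem h1 h2⟩
    | smul p x _ hx =>
      obtain ⟨x', hx', h1⟩ := hx
      exact ⟨p • x', Submodule.smul_mem _ _ hx', by rw [← smul_sub]; exact Submodule.smul_mem _ _ h1⟩
  obtain ⟨w', hw', h1⟩ := key w hw
  exact ⟨w', hw', by rw [← sub_add_sub_cancel z w w']; exact add_mem hzw h1⟩

end FiltGal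

end Groth.Agent.ResProp.EF.K566
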