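import Groth.Agent.ResProp.EF.K477.Gal
import Groth.Agent.ResProp.EF.K741.ComodAb
import Groth.Agent.ResProp.EF.K940.CartHom

/-!
# Small objects on the `Γ`-side (c4)

`GObj A P`: cartesian presheaves of modules over the groupoid ring `A` with an action of an `R`-algebra `P` on the chart
(no compatibility with the coaction). `GPure`: `(D, Γ)`-modules, `P` acting through `π : P → D`. `GSmall`: finite successive
extensions of pure objects. Closed under sub- and quotient objects (`GSmall.sub`, `GSmall.quot`), hence under cohomology of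
complexes (`GSmall.hom`). Main theorem `GSmall.main`: cobar cohomology vanishes in positive degrees, and the module is
generated over `P` by its invariants.
-/

set_option autoImplicit false
set_option linter.dupNamespace false
set_option linter.style.haveILetI false

open CategoryTheory Opposite

namespace Groth.Agent.ResProp.EF.K566

open K784.BC K784.PM EF56 K477 Groth.Agent.ResProp.EF.K741
open _root_.K741.RP

universe u

section Obj

variable (A : NFᵒᵖ ⥤ CommRingCat.{u}) (P : Type u) [CommRing P] [Algebra (A.obj (op ⟨0⟩)) P]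

/-- cartesian presheaves of modules with a `P`-action on the chart -/
structure GObj where
  M : PM.{u} A
  cart : M.Cart
  [pm : Module P (M.obj ⟨0⟩)]
  [tw : IsScalarTower (A.obj (op ⟨0⟩)) P (M.obj ⟨0⟩)]

attribute [instance] GObj.pm GObj.tw

variable {A P}

/-- natural linear maps, `P`-linear on the chart -/
structure GHom (X X' : GObj A P) where
  f : ∀ a : NF, X.M.obj a →ₗ[A.obj (op a)] X'.M.obj a
  nat : ∀ {a b : NF} (φ : a ⟶ b) (m : X.M.obj b), f a (X.M.map φ m) = X'.M.map φ (f b m)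
  pl : ∀ (q : P) (m : X.M.obj ⟨0⟩), f ⟨0⟩ (q • m) = q • f ⟨0⟩ m

namespace GHom

variable {X X' X'' : GObj A P}

/-- composition -/
def comp (g : GHom X X') (h : GHom X' X'') : GHom X X'' where
  f a := (h.f a).comp (g.f a)
  nat φ m := by
    rw [LinearMap.comp_apply, g.nat, h.nat]
    rfl
  pl q m := by
    rw [LinearMap.comp_apply, g.pl, h.pl]
    rfl

@[simp] theorem comp_f (g : GHom X X') (h : GHom X' X'') (a : NF) (m : X.M.obj a) :
    (g.comp h).f a m = h.f a (g.f a m) := rfl

/-- the map on cobar cochains -/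
theorem cob_f (g : GHom X X') (n : ℕ) (m : X.M.obj ⟨n⟩) : g.f ⟨n + 1⟩ (cob X.M n m) = cob X'.M n (g.f ⟨n⟩ m) := by
  rw [cob_apply, cob_apply, map_sum]
  exact Finset.sum_congr rfl fun i _ => by rw [map_zsmul, g.nat]

variable (hA : GR A)

include hA

theorem inj (g : GHom X X') (h0 : Function.Injective (g.f ⟨0⟩)) (a : NF) : Function.Injective (g.f a) :=
  IsBC.map_injective (ff_pt hA a 0).fl (X.cart (pt a 0)) (X'.cart (pt a 0)) (g.f ⟨0⟩) (g.f a) (fun m => g.nat _ m) h0

omit hA in
theorem surj (g : GHom X X') (h0 : Function.Surjective (g.f ⟨0⟩)) (a : NF) : Function.Surjective (g.f a) :=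
  IsBC.map_surjective (X.cart (pt a 0)) (X'.cart (pt a 0)) (g.f ⟨0⟩) (g.f a) (fun m => g.nat _ m) h0

/-- the kernel is generated by its part on the chart, along every point -/
theorem ker_le_span (g : GHom X X') (a : NF) (i : Fin (a.n + 1)) (m : X.M.obj a) (hm : g.f a m = 0) :
    m ∈ Submodule.span (A.obj (op a)) (X.M.map (pt a i) '' {m | g.f ⟨0⟩ m = 0}) := by
  let K := LinearMap.ker (g.f ⟨0⟩)
  let K' := LinearMap.ker (g.f a)
  let ι : K →+ K' :=
    { toFun := fun k => ⟨X.M.map (pt a i) k.1, by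
        rw [LinearMap.mem_ker, g.nat, LinearMap.mem_ker.1 k.2, map_zero]⟩
      map_zero' := Subtype.ext (map_zero _)
      map_add' := fun _ _ => Subtype.ext (map_add _ _ _) }
  have h : IsBC (rg A (pt a i)) ι := IsBC.of_exact (ff_pt hA a i).fl K.subtype Subtype.val_injective (g.f ⟨0⟩)
    (fun m => ⟨fun hm => ⟨⟨m, hm⟩, rfl⟩, fun ⟨k, hk⟩ => hk ▸ k.2⟩) K'.subtype Subtype.val_injective (g.f a)
    (fun m => ⟨fun hm => ⟨⟨m, hm⟩, rfl⟩, fun ⟨k, hk⟩ => hk ▸ k.2⟩) (X.cart (pt a i)) (X'.cart (pt a i))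
    (fun _ => rfl) (fun m => g.nat _ m)
  have h1 : (⟨m, hm⟩ : K') ∈ Submodule.span (A.obj (op a)) (Set.range ι) := by rw [h.span_range]; trivial
  have h2 := Submodule.mem_map_of_mem (f := K'.subtype) h1
  rw [Submodule.map_span] at h2
  refine Submodule.span_mono ?_ h2
  rintro _ ⟨_, ⟨k, rfl⟩, rfl⟩
  exact ⟨k.1, k.2, rfl⟩

omit hA in
/-- the range is generated by its part on the chart, along every point -/
theorem range_le_span (g : GHom X X') (a : NF) (i : Fin (a.n + 1)) (m : X.M.obj a) :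
    g.f a m ∈ Submodule.span (A.obj (op a)) (X'.M.map (pt a i) '' (LinearMap.range (g.f ⟨0⟩) : Set (X'.M.obj ⟨0⟩))) := by
  induction m using (X.cart (pt a i)).induction with
  | zero => rw [map_zero]; exact zero_mem _
  | map m => exact Submodule.subset_span ⟨g.f ⟨0⟩ m, ⟨m, rfl⟩, (g.nat _ m).symm⟩
  | smul b n hn => rw [map_smul]; exact Submodule.smul_mem _ _ hn
  | add x y hx hy => rw [map_add]; exact add_mem hx hy

/-- exactness at all levels -/
theorem exact (i : GHom X X') (q : GHom X' X'') (h0 : Function.Exact (i.f ⟨0⟩) (q.f ⟨0⟩)) (a : NF) :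
    Function.Exact (i.f a) (q.f a) := by
  intro m
  constructor
  · intro hm
    have h1 := q.ker_le_span hA a 0 m hm
    have h2 : Submodule.span (A.obj (op a)) (X'.M.map (pt a 0) '' {m | q.f ⟨0⟩ m = 0}) ≤ LinearMap.range (i.f a) := by
      refine Submodule.span_le.2 ?_
      rintro _ ⟨m, hm, rfl⟩
      obtain ⟨m', rfl⟩ := (h0 m).1 hm
      exact ⟨X.M.map (pt a 0) m', i.nat _ m'⟩
    exact h2 h1
  · rintro ⟨m, rfl⟩
    induction m using (X.cart (pt a 0)).induction with
    | zero => rw [map_zero, map_zero]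
    | map m => rw [i.nat, q.nat, h0.apply_apply_eq_zero, map_zero]
    | smul b n hn => rw [map_smul, map_smul, hn, smul_zero]
    | add x y hx hy => rw [map_add, map_add, hx, hy, add_zero]

end GHom

theorem GObj.subsingleton (X : GObj A P) (h : Subsingleton (X.M.obj ⟨0⟩)) (a : NF) : Subsingleton (X.M.obj a) := by
  refine ⟨fun x y => ?_⟩
  have h0 : ∀ z : X.M.obj a, z = 0 := by
    intro z
    induction z using (X.cart (pt a 0)).induction with
    | zero => rfl
    | map m => rw [Subsingleton.elim m 0, map_zero]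
    | smul b n hn => rw [hn, smul_zero]
    | add x y hx hy => rw [hx, hy, add_zero]
  rw [h0 x, h0 y]

end Obj

/-! ### subobjects and quotients -/

section Sub

variable {A : NFᵒᵖ ⥤ CommRingCat.{u}} {P : Type u} [CommRing P] [Algebra (A.obj (op ⟨0⟩)) P]

/-- subobjects -/
structure GSub (X : GObj A P) where
  L : ∀ a : NF, Submodule (A.obj (op a)) (X.M.obj a)
  map_mem : ∀ ⦃a b : NF⦄ (φ : a ⟶ b) (m : X.M.obj b), m ∈ L b → X.M.map φ m ∈ L a
  gen : ∀ (a : NF) (i : Fin (a.n + 1)) (m : X.M.obj a), m ∈ L a →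
    m ∈ Submodule.span (A.obj (op a)) (X.M.map (pt a i) '' (L ⟨0⟩ : Set (X.M.obj ⟨0⟩)))
  smul_mem : ∀ (q : P) (m : X.M.obj ⟨0⟩), m ∈ L ⟨0⟩ → q • m ∈ L ⟨0⟩

namespace GSub

variable {X X' : GObj A P}

theorem eq_span (S : GSub X) (a : NF) (i : Fin (a.n + 1)) :
    S.L a = Submodule.span (A.obj (op a)) (X.M.map (pt a i) '' (S.L ⟨0⟩ : Set (X.M.obj ⟨0⟩))) := by
  refine le_antisymm (fun m hm => S.gen a i m hm) (Submodule.span_le.2 ?_)
  rintro _ ⟨m, hm, rfl⟩
  exact S.map_mem _ m hm

/-- the quotient presheaf -/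
def quotPM (S : GSub X) : PM.{u} A where
  obj a := X.M.obj a ⧸ S.L a
  grp _ := inferInstance
  mod _ := inferInstance
  map {a b} φ := QuotientAddGroup.map (S.L b).toAddSubgroup (S.L a).toAddSubgroup (X.M.map φ)
    fun _ hm => S.map_mem φ _ hm
  map_smul {a b} φ r m := by
    induction m using Submodule.Quotient.induction_on with
    | H m =>
      change Submodule.Quotient.mk (X.M.map φ (r • m)) = rg A φ r • (Submodule.Quotient.mk (X.M.map φ m) : X.M.obj a ⧸ S.L a)
      rw [X.M.map_smul, Submodule.Quotient.mk_smul]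
  map_id z m := by
    induction m using Submodule.Quotient.induction_on with
    | H m =>
      change Submodule.Quotient.mk (X.M.map (𝟙 z) m) = Submodule.Quotient.mk m
      rw [X.M.map_id]
  map_comp {y x z} ψ φ m := by
    induction m using Submodule.Quotient.induction_on with
    | H m =>
      change (Submodule.Quotient.mk (X.M.map (ψ ≫ φ) m) : X.M.obj y ⧸ S.L y) =
        Submodule.Quotient.mk (X.M.map ψ (X.M.map φ m))
      rw [X.M.map_comp]

theorem quotPM_map (S : GSub X) {a b : NF} (φ : a ⟶ b) (m : X.M.obj b) :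
    S.quotPM.map φ (Submodule.Quotient.mk m : X.M.obj b ⧸ S.L b) = (Submodule.Quotient.mk (X.M.map φ m) : X.M.obj a ⧸ S.L a) := rfl

theorem isBC_quotPM (S : GSub X) (a : NF) (i : Fin (a.n + 1)) : IsBC (rg A (pt a i)) (S.quotPM.map (pt a i)) :=
  isBC_quot (X.cart (pt a i)) (S.L ⟨0⟩) (S.L a) (S.eq_span a i) _ fun _ => rfl

/-- the `P`-action on the quotient -/
@[reducible] def smulQuot (S : GSub X) : SMul P (X.M.obj ⟨0⟩ ⧸ S.L ⟨0⟩) :=
  ⟨fun q => (S.L ⟨0⟩).mapQ (S.L ⟨0⟩) ((Algebra.lsmul (A.obj (op ⟨0⟩)) (A.obj (op ⟨0⟩)) (X.M.obj ⟨0⟩)) q :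
    X.M.obj ⟨0⟩ →ₗ[A.obj (op ⟨0⟩)] X.M.obj ⟨0⟩) fun m hm => S.smul_mem q m hm⟩

/-- the `P`-module structure on the quotient -/
@[reducible] def modQuot (S : GSub X) : Module P (X.M.obj ⟨0⟩ ⧸ S.L ⟨0⟩) :=
  letI := S.smulQuot
  Function.Surjective.module P (S.L ⟨0⟩).mkQ.toAddMonoidHom (Submodule.mkQ_surjective _) fun _ _ => rfl

theorem twQuot (S : GSub X) : letI := S.modQuot; IsScalarTower (A.obj (op ⟨0⟩)) P (X.M.obj ⟨0⟩ ⧸ S.L ⟨0⟩) :=
  letI := S.modQuot
  ⟨fun r q x => by
    induction x using Submodule.Quotient.induction_on with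
    | H m =>
      change (Submodule.Quotient.mk ((r • q) • m) : X.M.obj ⟨0⟩ ⧸ S.L ⟨0⟩) = Submodule.Quotient.mk (r • q • m)
      rw [smul_assoc]⟩

/-- the quotient object -/
def quot (S : GSub X) : GObj A P :=
  letI md : Module P (S.quotPM.obj ⟨0⟩) := S.modQuot
  haveI tw : IsScalarTower (A.obj (op ⟨0⟩)) P (S.quotPM.obj ⟨0⟩) := S.twQuot
  { M := S.quotPM
    cart := cart_of_pt _ S.isBC_quotPM
    pm := md
    tw := tw }

/-- the projection -/
def π (S : GSub X) : GHom X S.quot where
  f a := (S.L a).mkQ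
  nat _ _ := rfl
  pl _ _ := rfl

theorem π_surj (S : GSub X) (a : NF) : Function.Surjective (S.π.f a) := Submodule.mkQ_surjective _

theorem π_eq_zero (S : GSub X) (a : NF) (m : X.M.obj a) : S.π.f a m = 0 ↔ m ∈ S.L a :=
  Submodule.Quotient.mk_eq_zero _

variable (hA : GR A)

/-- the subpresheaf -/
@[reducible] def subPM (S : GSub X) : PM.{u} A := _root_.K741.RP.sub X.M S.L S.map_mem

/-- the `P`-action on the subobject -/
@[reducible] def smulSub (S : GSub X) : SMul P (S.L ⟨0⟩) := ⟨fun q m => ⟨q • m.1, S.smul_mem q m.1 m.2⟩⟩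

/-- the `P`-module structure on the subobject -/
@[reducible] def modSub (S : GSub X) : Module P (S.L ⟨0⟩) :=
  letI := S.smulSub
  Function.Injective.module P (S.L ⟨0⟩).subtype.toAddMonoidHom Subtype.val_injective fun _ _ => rfl

theorem twSub (S : GSub X) : letI := S.modSub; IsScalarTower (A.obj (op ⟨0⟩)) P (S.L ⟨0⟩) :=
  letI := S.modSub
  ⟨fun r q x => Subtype.ext (smul_assoc r q x.1)⟩

/-- the subobject as an object -/
def obj (S : GSub X) (hA : GR A) : GObj A P :=
  letI md : Module P (S.subPM.obj ⟨0⟩) := S.modSub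
  haveI tw : IsScalarTower (A.obj (op ⟨0⟩)) P (S.subPM.obj ⟨0⟩) := S.twSub
  { M := S.subPM
    cart := cart_of_pt _ fun a i =>
      IsBC.of_exact (ff_pt hA a i).fl (S.L ⟨0⟩).subtype Subtype.val_injective (S.L ⟨0⟩).mkQ
      (fun m => ⟨fun hm => ⟨⟨m, (Submodule.Quotient.mk_eq_zero _).1 hm⟩, rfl⟩,
        fun ⟨k, hk⟩ => (Submodule.Quotient.mk_eq_zero _).2 (hk ▸ k.2)⟩)
      (S.L a).subtype Subtype.val_injective (S.L a).mkQ
      (fun m => ⟨fun hm => ⟨⟨m, (Submodule.Quotient.mk_eq_zero _).1 hm⟩, rfl⟩,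
        fun ⟨k, hk⟩ => (Submodule.Quotient.mk_eq_zero _).2 (hk ▸ k.2)⟩)
      (X.cart (pt a i)) (S.isBC_quotPM a i) (fun _ => rfl) (fun _ => rfl)
    pm := md
    tw := tw }

/-- the inclusion -/
def ι (S : GSub X) (hA : GR A) : GHom (S.obj hA) X where
  f a := (S.L a).subtype
  nat _ _ := rfl
  pl _ _ := rfl

theorem ι_inj (S : GSub X) (a : NF) : Function.Injective ((S.ι hA).f a) := Subtype.val_injective

/-- kernels -/
def ker (g : GHom X X') (hA : GR A) : GSub X where
  L a := LinearMap.ker (g.f a)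
  map_mem a b φ m hm := by
    rw [LinearMap.mem_ker, g.nat, LinearMap.mem_ker.1 hm, map_zero]
  gen a i m hm := g.ker_le_span hA a i m hm
  smul_mem q m hm := by
    rw [LinearMap.mem_ker, g.pl, LinearMap.mem_ker.1 hm, smul_zero]

/-- ranges -/
def range (g : GHom X X') : GSub X' where
  L a := LinearMap.range (g.f a)
  map_mem a b φ m hm := by
    obtain ⟨m, rfl⟩ := hm
    exact ⟨X.M.map φ m, g.nat _ m⟩
  gen a i m hm := by
    obtain ⟨m, rfl⟩ := hm
    exact g.range_le_span a i m
  smul_mem q m hm := by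
    obtain ⟨m, rfl⟩ := hm
    exact ⟨q • m, g.pl q m⟩

/-- corestriction of a map to a subobject -/
def corestrict (S : GSub X) (hA : GR A) (g : GHom X' X) (h : ∀ a m, g.f a m ∈ S.L a) : GHom X' (S.obj hA) where
  f a := (g.f a).codRestrict (S.L a) (h a)
  nat φ m := Subtype.ext (g.nat φ m)
  pl q m := Subtype.ext (g.pl q m)

/-- factorization through a quotient -/
def desc (S : GSub X) (g : GHom X X') (h : ∀ a, ∀ m ∈ S.L a, g.f a m = 0) : GHom S.quot X' where
  f a := (S.L a).liftQ (g.f a) (h a)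
  nat {a b} φ m := by
    induction m using Submodule.Quotient.induction_on with
    | H m => exact g.nat φ m
  pl q m := by
    induction m using Submodule.Quotient.induction_on with
    | H m => exact g.pl q m

end GSub

/-- lifting along an injective map -/
noncomputable def GHom.lift {X' X Z : GObj A P} (hA : GR A) (i : GHom X' X) (h0 : Function.Injective (i.f ⟨0⟩))
    (g : GHom Z X) (h : ∀ a m, ∃ m', i.f a m' = g.f a m) : GHom Z X' where
  f a :=
    { toFun := fun m => (h a m).choose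
      map_add' := fun m m' => i.inj hA h0 a ((h a (m + m')).choose_spec.trans (by
        rw [map_add (g.f a), map_add (i.f a), (h a m).choose_spec, (h a m').choose_spec]))
      map_smul' := fun r m => i.inj hA h0 a ((h a (r • m)).choose_spec.trans (by
        rw [RingHom.id_apply, map_smul (g.f a), map_smul (i.f a), (h a m).choose_spec])) }
  nat {a b} φ m := i.inj hA h0 a (by
    refine ((h a _).choose_spec).trans ?_
    rw [i.nat]
    exact (g.nat φ m).trans (congrArg _ (h b m).choose_spec.symm))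
  pl q m := h0 (by
    refine ((h ⟨0⟩ _).choose_spec).trans ?_
    rw [i.pl]
    exact (g.pl q m).trans (congrArg _ (h ⟨0⟩ m).choose_spec.symm))

theorem GHom.lift_spec {X' X Z : GObj A P} (hA : GR A) (i : GHom X' X) (h0 : Function.Injective (i.f ⟨0⟩))
    (g : GHom Z X) (h : ∀ a m, ∃ m', i.f a m' = g.f a m) (a : NF) (m : Z.M.obj a) :
    i.f a ((GHom.lift hA i h0 g h).f a m) = g.f a m := (h a m).choose_spec

/-- factorization through a surjective map -/
noncomputable def GHom.desc {X X'' Z : GObj A P} (q : GHom X X'') (h0 : Function.Surjective (q.f ⟨0⟩))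
    (g : GHom X Z) (h : ∀ a m, q.f a m = 0 → g.f a m = 0) : GHom X'' Z :=
  have hs := q.surj h0
  have key : ∀ a m m', q.f a m = q.f a m' → g.f a m = g.f a m' := fun a m m' e => by
    rw [← sub_eq_zero, ← map_sub]
    exact h a _ (by rw [map_sub, e, sub_self])
  { f := fun a =>
      { toFun := fun m => g.f a (hs a m).choose
        map_add' := fun m m' => by
          rw [← map_add]
          exact key a _ _ (by rw [map_add, (hs a _).choose_spec, (hs a _).choose_spec, (hs a _).choose_spec])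
        map_smul' := fun r m => by
          rw [RingHom.id_apply, ← map_smul]
          exact key a _ _ (by rw [map_smul, (hs a _).choose_spec, (hs a _).choose_spec]) }
    nat := fun {a b} φ m => by
      change g.f a (hs a _).choose = Z.M.map φ (g.f b (hs b m).choose)
      rw [← g.nat]
      exact key a _ _ (by rw [(hs a _).choose_spec, q.nat, (hs b _).choose_spec])
    pl := fun p m => by
      change g.f ⟨0⟩ (hs ⟨0⟩ _).choose = p • (g.f ⟨0⟩ (hs ⟨0⟩ m).choose)
      rw [← g.pl]
      exact key ⟨0⟩ _ _ (by rw [(hs ⟨0⟩ _).choose_spec, q.pl, (hs ⟨0⟩ _).choose_spec]) }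

theorem GHom.desc_spec {X X'' Z : GObj A P} (q : GHom X X'') (h0 : Function.Surjective (q.f ⟨0⟩))
    (g : GHom X Z) (h : ∀ a m, q.f a m = 0 → g.f a m = 0) (a : NF) (m : X.M.obj a) :
    (GHom.desc q h0 g h).f a (q.f a m) = g.f a m := by
  change g.f a (q.surj h0 a (q.f a m)).choose = g.f a m
  rw [← sub_eq_zero, ← map_sub]
  exact h a _ (by rw [map_sub, (q.surj h0 a (q.f a m)).choose_spec, sub_self])

end Sub

end Groth.Agent.ResProp.EF.K566
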