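import Groth.Agent.ResProp.EF.K566.SmallTh
import Groth.Agent.ResProp.EF.K566.SmallArch
import Groth.Agent.ResProp.EF.K494.SeamC

/-!
# The terms of the kernel complex are small in `Comod A` (c4)

`smK` : `Arch.Small c ι π X → Sm c.Y.j π (cm X) (multiplication by P)`;
`smKernel` : for a kernel datum `KD`, all `(cmCx KD)^n` with the action `usCmCx⁻¹ ∘ actP ∘ usCmCx`.
-/

set_option autoImplicit false
set_option linter.dupNamespace false
set_option linter.style.haveILetI false
set_option backward.isDefEq.respectTransparency false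

open CategoryTheory CategoryTheory.Limits Opposite TensorProduct HomologicalComplex

noncomputable section

namespace Groth.Agent.ResProp.EF.K566

open K784.BC K784.PM EF56 K477 Arch Grp K294 K494.Seam
open K409 (IsAct)

universe u

variable {k : Type u} [CommRing k] {A : NFᵒᵖ ⥤ CommRingCat.{u}} [GRF k A] {E : Gp k}
  {P : Type u} [CommRing P] [Algebra (A.obj (op ⟨0⟩)) P]

/-- multiplication by `q` on the chart -/
def mulK (X : SObj k A E P) (q : P) : (vst A).obj (cm X) ⟶ (vst A).obj (cm X) :=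
  show ModuleCat.of (A.obj (op ⟨0⟩)) (X.M.obj ⟨0⟩) ⟶ ModuleCat.of (A.obj (op ⟨0⟩)) (X.M.obj ⟨0⟩) from
    ModuleCat.ofHom (smulP X q)

theorem isAct_mulK (X : SObj k A E P) : IsAct (A := A.obj (op ⟨0⟩)) (mulK X) where
  one := ModuleCat.hom_ext (LinearMap.ext fun m => one_smul P (show X.M.obj ⟨0⟩ from m))
  mul p q := ModuleCat.hom_ext (LinearMap.ext fun m => by
    change (p * q) • (show X.M.obj ⟨0⟩ from m) = q • p • (show X.M.obj ⟨0⟩ from m)
    rw [mul_comm, mul_smul])
  add p q := ModuleCat.hom_ext (LinearMap.ext fun m => add_smul p q (show X.M.obj ⟨0⟩ from m))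
  alg a := ModuleCat.hom_ext (LinearMap.ext fun m => algebraMap_smul P a (show X.M.obj ⟨0⟩ from m))

variable {x : PrimeSpectrum (A.obj (op ⟨0⟩))} {c : CoverDatum k A x} {ι : c.H.O →ₐc[k] E.O}
  {π : P →ₐ[A.obj (op ⟨0⟩)] c.Y.D.obj (op ⟨0⟩)}

/-- **small objects of `Arch` are small in `Comod A`** -/
theorem smK (hA : GR A) (hπ : Function.Surjective π) {X : SObj k A E P} (h : Small c ι π X) :
    Sm c.Y.j (π : P →+* c.Y.D.obj (op ⟨0⟩)) (cm X) (mulK X) :=
  ⟨isAct_mulK X, (gsmall h).of_bijective hA (fun φ => c.Y.cart φ) hπ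
    (Y := gobj (cm X) (mulK X) (isAct_mulK X))
    { f := fun a => LinearMap.id (M := X.M.obj a)
      nat := fun _ _ => rfl
      pl := fun _ _ => rfl } Function.bijective_id⟩

section Fact

variable [hA : Fact (GR A)]

/-- the smallness theory over `chartF A` -/
def smallThF {D : NFᵒᵖ ⥤ CommRingCat.{u}} {j : A ⟶ D} {π : P →+* D.obj (op ⟨0⟩)} (hj : CartHom j)
    (hπ : Function.Surjective π) :
    K409.SmallTh (chartF A) P (K911.comodTChart hA.out).TC (K911.comodTChart hA.out).data :=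
  smallTh hA.out hj hπ

theorem smallThF_S {D : NFᵒᵖ ⥤ CommRingCat.{u}} {j : A ⟶ D} {π : P →+* D.obj (op ⟨0⟩)} (hj : CartHom j)
    (hπ : Function.Surjective π) (M : Comod A) (ρ : P → ((chartF A).us.obj M ⟶ (chartF A).us.obj M)) :
    (smallThF hj hπ).S M ρ ↔ Sm j π M ρ := Iff.rfl

/-- `P` acts on the chart complex of a kernel datum -/
def actKc (KD : KernelDatum c) (q : KD.P) :
    (chartF A).usC.obj (cmCx KD.K KD.d KD.dd) ⟶ (chartF A).usC.obj (cmCx KD.K KD.d KD.dd) :=
  (usCmCx KD.K KD.d KD.dd).hom ≫ actP KD.K KD.d KD.dd q ≫ (usCmCx KD.K KD.d KD.dd).inv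

theorem actKc_f (KD : KernelDatum c) (q : KD.P) (n : ℤ) : (actKc KD q).f n = mulK (KD.K n) q := rfl

/-- the smallness theory of a kernel datum -/
def smallKD (KD : KernelDatum c) :
    K409.SmallTh (chartF A) KD.P (K911.comodTChart hA.out).TC (K911.comodTChart hA.out).data :=
  smallThF (j := c.Y.j) (π := (KD.π : KD.P →+* c.Y.D.obj (op ⟨0⟩))) (fun φ => c.Y.cart φ) KD.π_surj

/-- **the terms of the kernel complex are small** -/
theorem smallKD_S (KD : KernelDatum c) (n : ℤ) :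
    (smallKD KD).S ((cmCx KD.K KD.d KD.dd).X n) (fun q => (actKc KD q).f n) :=
  smK hA.out KD.π_surj (KD.small n)

/-- **Galois step, acyclicity** -/
theorem acyc_of_smallKD (KD : KernelDatum c) (M : Comod A) (ρ : KD.P → ((chartF A).us.obj M ⟶ (chartF A).us.obj M))
    (s : (smallKD KD).S M ρ) : K792.Acyc (K874.RG (K476.CobInst.cob A)) M :=
  acyc_of_sm (fun φ => c.Y.cart φ) KD.π_surj c.gal M ρ s

/-- **Galois step, generation** -/
theorem eq_top_of_smallKD (KD : KernelDatum c) (M : Comod A)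
    (ρ : KD.P → ((chartF A).us.obj M ⟶ (chartF A).us.obj M)) (s : (smallKD KD).S M ρ)
    (Z : AddSubgroup ((chartF A).us.obj M))
    (hinv : ∀ x : (chartF A).us.obj M, x ∈ K517.inv (K110.rgPrj (K476.CobInst.cob A)) M → x ∈ Z)
    (hP : ∀ (q : KD.P), ∀ x ∈ Z, (ρ q).hom x ∈ Z) : Z = ⊤ :=
  eq_top_of_sm' (fun φ => c.Y.cart φ) KD.π_surj c.gal M ρ s Z hinv hP

end Fact

end Groth.Agent.ResProp.EF.K566
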