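import Groth.Agent.ResProp.EF.K409.SmallG
import Groth.Agent.ResProp.EF.K686.Pure
import Groth.Agent.ResProp.EF.K566.Small

/-!
# OUT: from an elementwise filtration on the chart to `GSmall`

`GFil Y π X m F` (weak form of helper409's `SmallFil`, of helper907's `Sml`): a finite filtration of the chart module by
`P`- and `Γ`-stable submodules such that on the pieces `P` acts through `D` and the coaction is `D`-semilinear.
`GFil.gsmall`: then `X` is `GSmall`. `GFil.span_inv`, `GFil.exact_cob`: the Galois step.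
-/

set_option autoImplicit false
set_option linter.dupNamespace false
set_option linter.style.haveILetI false

open CategoryTheory Opposite

namespace Groth.Agent.ResProp.EF.K566

open K784.BC K784.PM EF56 K477 K985 Arch Groth.Agent.ResProp.EF.K741
open K409 (up valx opx)

universe u

variable {A : NFᵒᵖ ⥤ CommRingCat.{u}} {P : Type u} [CommRing P] [Algebra (A.obj (op ⟨0⟩)) P]

/-- multiplication by an element of `P` -/
abbrev GObj.act (X : GObj A P) (q : P) : X.M.obj ⟨0⟩ →ₗ[A.obj (op ⟨0⟩)] X.M.obj ⟨0⟩ :=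
  Algebra.lsmul (A.obj (op ⟨0⟩)) (A.obj (op ⟨0⟩)) (X.M.obj ⟨0⟩) q

/-! ### subobjects from stable submodules of the chart -/

section Stable

variable {X : GObj A P} {W : Submodule (A.obj (op ⟨0⟩)) (X.M.obj ⟨0⟩)}

theorem map_pt_mem (hg : ∀ x ∈ W, X.M.map (lst ⟨0⟩) x ∈ up X.M W) (a : NF) (i i' : Fin (a.n + 1)) (w : X.M.obj ⟨0⟩)
    (hw : w ∈ W) : X.M.map (pt a i) w ∈ Submodule.span (A.obj (op a)) (X.M.map (pt a i') '' (W : Set (X.M.obj ⟨0⟩))) := by
  let ψ : a ⟶ ⟨1⟩ := lft (pt a i') (pt a i)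
  have h1 : ψ ≫ pr ⟨0⟩ = pt a i' := lft_pr _ _
  have h2 : ψ ≫ lst ⟨0⟩ = pt a i := lft_lst _ _
  have h3 := hg w hw
  have h4 : ∀ z ∈ up X.M W, X.M.map ψ z ∈
      Submodule.span (A.obj (op a)) (X.M.map (pt a i') '' (W : Set (X.M.obj ⟨0⟩))) := by
    intro z hz
    induction hz using Submodule.span_induction with
    | mem z hz =>
      obtain ⟨w, hw, rfl⟩ := hz
      rw [← X.M.map_comp, h1]
      exact Submodule.subset_span ⟨w, hw, rfl⟩
    | zero => rw [map_zero]; exact zero_mem _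
    | add x y _ _ hx hy => rw [map_add]; exact add_mem hx hy
    | smul r x _ hx => rw [X.M.map_smul]; exact Submodule.smul_mem _ _ hx
  have h5 := h4 _ h3
  rwa [← X.M.map_comp, h2] at h5

theorem pt_zero : pt ⟨0⟩ 0 = 𝟙 (⟨0⟩ : NF) := by
  funext i
  exact Subsingleton.elim (α := Fin 1) _ _

theorem pt_one_zero : pt ⟨1⟩ 0 = pr (⟨0⟩ : NF) := by
  funext i
  have : i = 0 := Subsingleton.elim (α := Fin 1) _ _
  subst this
  rfl

theorem pt_one_one : pt ⟨1⟩ 1 = lst (⟨0⟩ : NF) := rfl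

theorem span_pt_zero : Submodule.span (A.obj (op ⟨0⟩)) (X.M.map (pt ⟨0⟩ 0) '' (W : Set (X.M.obj ⟨0⟩))) = W := by
  have : X.M.map (pt ⟨0⟩ 0) '' (W : Set (X.M.obj ⟨0⟩)) = W := by
    rw [pt_zero]
    ext x
    constructor
    · rintro ⟨y, hy, rfl⟩
      rw [X.M.map_id]
      exact hy
    · intro hx
      exact ⟨x, hx, X.M.map_id _ x⟩
  rw [this, Submodule.span_eq]

/-- the subobject generated by a stable submodule of the chart -/
def GSub.ofStable (W : Submodule (A.obj (op ⟨0⟩)) (X.M.obj ⟨0⟩)) (hg : ∀ x ∈ W, X.M.map (lst ⟨0⟩) x ∈ up X.M W)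
    (hp : ∀ (q : P), ∀ x ∈ W, q • x ∈ W) : GSub X where
  L a := Submodule.span (A.obj (op a)) (X.M.map (pt a 0) '' (W : Set (X.M.obj ⟨0⟩)))
  map_mem a b φ m hm := by
    induction hm using Submodule.span_induction with
    | mem z hz =>
      obtain ⟨w, hw, rfl⟩ := hz
      rw [← X.M.map_comp, comp_pt φ 0]
      exact map_pt_mem hg a _ 0 w hw
    | zero => rw [map_zero]; exact zero_mem _
    | add x y _ _ hx hy => rw [map_add]; exact add_mem hx hy
    | smul r x _ hx => rw [X.M.map_smul]; exact Submodule.smul_mem _ _ hx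
  gen a i m hm := by
    rw [span_pt_zero]
    refine Submodule.span_induction (p := fun m _ => m ∈
      Submodule.span (A.obj (op a)) (X.M.map (pt a i) '' (W : Set (X.M.obj ⟨0⟩)))) ?_ ?_ ?_ ?_ hm
    · rintro _ ⟨w, hw, rfl⟩
      exact map_pt_mem hg a 0 i w hw
    · exact zero_mem _
    · exact fun x y _ _ hx hy => add_mem hx hy
    · exact fun r x _ hx => Submodule.smul_mem _ _ hx
  smul_mem q m hm := by
    rw [span_pt_zero] at hm ⊢
    exact hp q m hm

theorem GSub.ofStable_zero (hg : ∀ x ∈ W, X.M.map (lst ⟨0⟩) x ∈ up X.M W) (hp : ∀ (q : P), ∀ x ∈ W, q • x ∈ W) :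
    (GSub.ofStable W hg hp).L ⟨0⟩ = W := span_pt_zero

theorem GSub.ofStable_one (hg : ∀ x ∈ W, X.M.map (lst ⟨0⟩) x ∈ up X.M W) (hp : ∀ (q : P), ∀ x ∈ W, q • x ∈ W) :
    (GSub.ofStable W hg hp).L ⟨1⟩ = up X.M W := by
  change Submodule.span (A.obj (op ⟨1⟩)) (X.M.map (pt ⟨1⟩ 0) '' (W : Set (X.M.obj ⟨0⟩))) = _
  rw [pt_one_zero]
  rfl

/-- a subobject inside a larger one -/
def GSub.restr (S S' : GSub X) (h : ∀ a, S'.L a ≤ S.L a) (hA : GR A) : GSub (S.obj hA) where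
  L a := (S'.L a).comap (S.L a).subtype
  map_mem a b φ m hm := S'.map_mem φ m.1 hm
  gen a i m hm := by
    have h1 : m.1 ∈ Submodule.span (A.obj (op a)) (X.M.map (pt a i) '' (S'.L ⟨0⟩ : Set (X.M.obj ⟨0⟩))) := S'.gen a i m.1 hm
    have h2 : X.M.map (pt a i) '' (S'.L ⟨0⟩ : Set (X.M.obj ⟨0⟩)) ⊆
        (S.L a).subtype '' ((S.obj hA).M.map (pt a i) '' (((S'.L ⟨0⟩).comap (S.L ⟨0⟩).subtype :
          Submodule _ (S.L ⟨0⟩)) : Set (S.L ⟨0⟩))) := by
      rintro _ ⟨w, hw, rfl⟩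
      exact ⟨(S.obj hA).M.map (pt a i) (⟨w, h _ hw⟩ : S.L ⟨0⟩), ⟨⟨w, h _ hw⟩, hw, rfl⟩, rfl⟩
    have h3 := Submodule.span_mono h2 h1
    rw [Submodule.span_image] at h3
    obtain ⟨m', hm', e⟩ := h3
    have : m' = m := Subtype.ext e
    rw [← this]
    exact hm'
  smul_mem q m hm := S'.smul_mem q m.1 hm

/-- the inclusion of subobjects -/
def GSub.incl (S S' : GSub X) (h : ∀ a, S'.L a ≤ S.L a) (hA : GR A) : GHom (S'.obj hA) (S.obj hA) where
  f a := Submodule.inclusion (h a)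
  nat _ _ := rfl
  pl _ _ := rfl

end Stable

/-! ### graded pieces -/

section Gr

variable (Y : AffOver A) (π : P →ₐ[A.obj (op ⟨0⟩)] Y.D.obj (op ⟨0⟩))

/-- semilinear pieces are pure -/
theorem pure_gr (hA : GR A) (hπ : Function.Surjective π) {X : GObj A P} (S S' : GSub X) (h : ∀ a, S'.L a ≤ S.L a)
    (ker : ∀ q, π q = 0 → ∀ x ∈ S.L ⟨0⟩, q • x ∈ S'.L ⟨0⟩)
    (semi : ∀ q, ∃ t, valx Y.j π t = rg Y.D (lst ⟨0⟩) (π q) ∧ ∀ x ∈ S.L ⟨0⟩,
      X.M.map (lst ⟨0⟩) (q • x) - opx X.cart X.act t (X.M.map (lst ⟨0⟩) x) ∈ S'.L ⟨1⟩) :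
    Nonempty (GPure Y.j (π : P →+* Y.D.obj (op ⟨0⟩)) (S.restr S' h hA).quot) := by
  let T := S.restr S' h hA
  let Q : GObj A P := T.quot
  let g : GHom (S.obj hA) Q := T.π
  let i : GHom (S.obj hA) X := S.ι hA
  have hs : ∀ a, Function.Surjective (g.f a) := T.π_surj
  have hg0 : ∀ (a : NF) (m : (S.obj hA).M.obj a), g.f a m = 0 ↔ i.f a m ∈ S'.L a := fun a m => T.π_eq_zero a m
  have hk : ∀ q q' : P, π q = π q' → ∀ y : Q.M.obj ⟨0⟩, q • y = q' • y := by
    intro q q' e y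
    obtain ⟨x, rfl⟩ := hs ⟨0⟩ y
    rw [← sub_eq_zero, ← sub_smul, ← g.pl, hg0, i.pl]
    exact ker (q - q') (by rw [map_sub, e, sub_self]) _ x.2
  let sm : SMul (Y.D.obj (op ⟨0⟩)) (Q.M.obj ⟨0⟩) := ⟨fun d y => (hπ d).choose • y⟩
  letI md : Module (Y.D.obj (op ⟨0⟩)) (Q.M.obj ⟨0⟩) :=
    Function.Surjective.moduleLeft (π : P →+* Y.D.obj (op ⟨0⟩)) hπ fun q y => hk _ _ (hπ (π q)).choose_spec y
  have hact : ∀ (q : P) (y : Q.M.obj ⟨0⟩), π q • y = q • y := fun q y => hk _ _ (hπ (π q)).choose_spec y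
  have tow : ∀ (r : A.obj (op ⟨0⟩)) (m : Q.M.obj ⟨0⟩),
      algebraMap (A.obj (op ⟨0⟩)) (Y.D.obj (op ⟨0⟩)) r • m = r • m := by
    intro r m
    have : algebraMap (A.obj (op ⟨0⟩)) (Y.D.obj (op ⟨0⟩)) r = π (algebraMap (A.obj (op ⟨0⟩)) P r) := (π.commutes r).symm
    rw [this, hact, algebraMap_smul]
  obtain ⟨a1, h0⟩ := K686.exists_Φ Y Q.M Q.cart tow ⟨1⟩
  have h0' : ∀ (d : Y.D.obj (op ⟨0⟩)) (m : Q.M.obj ⟨0⟩),
      a1 (rg Y.D (pr ⟨0⟩) d) (Q.M.map (pr ⟨0⟩) m) = Q.M.map (pr ⟨0⟩) (d • m) := by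
    intro d m
    have e : (K686.p1 (n := 1) 0 : (⟨1⟩ : NF) ⟶ ⟨0⟩) = pr ⟨0⟩ := pt_one_zero
    have := h0 d m
    change a1 (rg Y.D (K686.p1 (n := 1) 0) d) (Q.M.map (K686.p1 (n := 1) 0) m) = Q.M.map (K686.p1 (n := 1) 0) (d • m) at this
    rw [e] at this
    exact this
  have e1 : ∀ q : P, a1 (rg Y.D (pr ⟨0⟩) (π q)) = PM.pl (M := Q.M) Q.cart (pr ⟨0⟩) (Q.act q) := by
    intro q
    refine PM.eq_pl Q.cart (pr ⟨0⟩) (Q.act q) fun e => ?_
    rw [h0', hact]
    rfl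
  have e2 : ∀ t, a1 (valx Y.j π t) = opx Q.cart Q.act t := by
    intro t
    rw [K409.valx, K409.opx, map_finsuppSum]
    refine Finset.sum_congr rfl fun q _ => ?_
    change a1 ((Y.j.app (op ⟨1⟩)).hom (t q) * rg Y.D (pr ⟨0⟩) (π q)) = t q • PM.pl (M := Q.M) Q.cart (pr ⟨0⟩) (Q.act q)
    rw [← e1, ← map_smul]
    rfl
  have h1 : ∀ (d : Y.D.obj (op ⟨0⟩)) (m : Q.M.obj ⟨0⟩),
      a1 (rg Y.D (lst ⟨0⟩) d) (Q.M.map (lst ⟨0⟩) m) = Q.M.map (lst ⟨0⟩) (d • m) := by
    intro d m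
    obtain ⟨q, rfl⟩ := hπ d
    obtain ⟨t, ht, hx⟩ := semi q
    obtain ⟨x, rfl⟩ := hs ⟨0⟩ m
    have f1 : K409.PHom (S.obj hA).M Q.M := ⟨g.f, fun φ m => g.nat φ m⟩
    have o1 : g.f ⟨1⟩ (opx (S.obj hA).cart (S.obj hA).act t ((S.obj hA).M.map (lst ⟨0⟩) x)) =
        opx Q.cart Q.act t (g.f ⟨1⟩ ((S.obj hA).M.map (lst ⟨0⟩) x)) :=
      K409.app_opx (S.obj hA).cart Q.cart ⟨g.f, fun φ m => g.nat φ m⟩ (fun q x => g.pl q x) t _
    have o2 : i.f ⟨1⟩ (opx (S.obj hA).cart (S.obj hA).act t ((S.obj hA).M.map (lst ⟨0⟩) x)) =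
        opx X.cart X.act t (i.f ⟨1⟩ ((S.obj hA).M.map (lst ⟨0⟩) x)) :=
      K409.app_opx (S.obj hA).cart X.cart ⟨i.f, fun φ m => i.nat φ m⟩ (fun q x => i.pl q x) t _
    rw [← ht, e2, ← g.nat, ← o1, hact, ← g.pl, ← g.nat, eq_comm, ← sub_eq_zero, ← map_sub, hg0, map_sub, o2, i.nat,
      i.nat, i.pl]
    exact hx _ x.2
  obtain ⟨α, hα⟩ := K686.exists_dAct Y Q.M Q.cart tow a1 h0 h1
  exact ⟨{
    md := fun a =>
      { smul := fun d m => α.Φ a d m
        one_smul := α.one a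
        mul_smul := α.mul a
        smul_zero := fun d => map_zero _
        smul_add := fun d m n => map_add _ _ _
        add_smul := fun d d' m => by
          change α.Φ a (d + d') m = α.Φ a d m + α.Φ a d' m
          rw [map_add, LinearMap.add_apply]
        zero_smul := fun m => by
          change α.Φ a 0 m = 0
          rw [map_zero, LinearMap.zero_apply] }
    tower := fun a r m => by
      change α.Φ a (algebraMap (A.obj (op a)) (Y.D.obj (op a)) r) m = r • m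
      rw [Algebra.algebraMap_eq_smul_one, map_smul, LinearMap.smul_apply, α.one]
    map_smul := fun φ d m => α.map_Φ φ d m
    act := fun q m => by
      change q • m = α.Φ ⟨0⟩ (π q) m
      rw [hα, hact] }⟩

end Gr

/-! ### the filtration -/

section Fil

variable (Y : AffOver A) (π : P →ₐ[A.obj (op ⟨0⟩)] Y.D.obj (op ⟨0⟩))

/-- a finite filtration on the chart with semilinear pieces -/
structure GFil (X : GObj A P) (m : ℕ) (F : ℕ → Submodule (A.obj (op ⟨0⟩)) (X.M.obj ⟨0⟩)) : Prop where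
  zero : F 0 = ⊤
  last : F m = ⊥
  anti : ∀ n, F (n + 1) ≤ F n
  pstab : ∀ (n : ℕ) (q : P), ∀ x ∈ F n, q • x ∈ F n
  gstab : ∀ n, ∀ x ∈ F n, X.M.map (lst ⟨0⟩) x ∈ up X.M (F n)
  ker : ∀ (n : ℕ) (q : P), π q = 0 → ∀ x ∈ F n, q • x ∈ F (n + 1)
  semi : ∀ (n : ℕ) (q : P), ∃ t, valx Y.j π t = rg Y.D (lst ⟨0⟩) (π q) ∧ ∀ x ∈ F n,
    X.M.map (lst ⟨0⟩) (q • x) - opx X.cart X.act t (X.M.map (lst ⟨0⟩) x) ∈ up X.M (F (n + 1))

variable {Y π} {X : GObj A P} {m : ℕ} {F : ℕ → Submodule (A.obj (op ⟨0⟩)) (X.M.obj ⟨0⟩)}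

namespace GFil

variable (h : GFil Y π X m F)

/-- the steps as subobjects -/
def S (n : ℕ) : GSub X := GSub.ofStable (F n) (h.gstab n) (h.pstab n)

theorem S_le (n : ℕ) (a : NF) : (h.S (n + 1)).L a ≤ (h.S n).L a :=
  Submodule.span_mono (Set.image_mono (h.anti n))

theorem mem_S (n : ℕ) (x : X.M.obj ⟨0⟩) : x ∈ (h.S n).L ⟨0⟩ ↔ x ∈ F n := by
  rw [S, GSub.ofStable_zero]

include h in
/-- **the object is small** -/
theorem gsmall (hA : GR A) (hπ : Function.Surjective π) : GSmall Y.j (π : P →+* Y.D.obj (op ⟨0⟩)) X := by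
  have key : ∀ k, k ≤ m → GSmall Y.j (π : P →+* Y.D.obj (op ⟨0⟩)) ((h.S (m - k)).obj hA) := by
    intro k
    induction k with
    | zero =>
      intro _
      refine .zero _ ⟨fun x y => ?_⟩
      have hz : ∀ z : ((h.S (m - 0)).obj hA).M.obj ⟨0⟩, z = 0 := by
        intro z
        have h2 : F (m - 0) = ⊥ := h.last
        have := (h.mem_S (m - 0) z.1).1 z.2
        rw [h2, Submodule.mem_bot] at this
        exact Subtype.ext this
      rw [hz x, hz y]
    | succ k ih =>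
      intro hk
      have e : m - k = m - (k + 1) + 1 := by omega
      have ih' := ih (by omega)
      rw [e] at ih'
      set n := m - (k + 1)
      have hle := h.S_le n
      refine .ext ((h.S (n + 1)).obj hA) ((h.S n).obj hA) ((h.S n).restr (h.S (n + 1)) hle hA).quot
        (GSub.incl (h.S n) (h.S (n + 1)) hle hA) ((h.S n).restr (h.S (n + 1)) hle hA).π ?_ ?_
        (((h.S n).restr (h.S (n + 1)) hle hA).π_surj ⟨0⟩) ih' (.pure _ ?_)
      · exact Submodule.inclusion_injective (hle ⟨0⟩)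
      · intro z
        rw [((h.S n).restr (h.S (n + 1)) hle hA).π_eq_zero]
        exact ⟨fun hz => ⟨⟨z.1, hz⟩, rfl⟩, fun ⟨w, hw⟩ => hw ▸ w.2⟩
      · refine pure_gr Y π hA hπ (h.S n) (h.S (n + 1)) hle (fun q hq x hx => ?_) fun q => ?_
        · rw [mem_S] at hx ⊢
          exact h.ker n q hq x hx
        · obtain ⟨t, ht, hx⟩ := h.semi n q
          refine ⟨t, ht, fun x hx' => ?_⟩
          rw [mem_S] at hx'
          have := hx x hx'
          rw [← GSub.ofStable_one (h.gstab (n + 1)) (h.pstab (n + 1))] at this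
          exact this
  have h0 := key m le_rfl
  rw [Nat.sub_self] at h0
  have hj : CartHom Y.j := fun φ => Y.cart φ
  refine h0.of_bijective hA hj hπ ((h.S 0).ι hA) ⟨(h.S 0).ι_inj hA ⟨0⟩, fun x => ?_⟩
  exact ⟨⟨x, (h.mem_S 0 x).2 (by rw [h.zero]; trivial)⟩, rfl⟩

include h in
/-- the Galois step: generation by invariants -/
theorem span_inv {C : Type u} [CommRing C] (G : Gal Y.D C) (hA : GR A) (hπ : Function.Surjective π) :
    Submodule.span P {x : X.M.obj ⟨0⟩ | cob X.M 0 x = 0} = ⊤ :=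
  ((h.gsmall hA hπ).main hA (fun φ => Y.cart φ) hπ G).2

include h in
/-- the Galois step: positive cobar cohomology vanishes -/
theorem exact_cob {C : Type u} [CommRing C] (G : Gal Y.D C) (hA : GR A) (hπ : Function.Surjective π) (n : ℕ)
    (x : X.M.obj ⟨n + 1⟩) (hx : cob X.M (n + 1) x = 0) : ∃ y, cob X.M n y = x :=
  ((h.gsmall hA hπ).main hA (fun φ => Y.cart φ) hπ G).1 n x hx

include h in
/-- the form used in F5: additive subgroups stable under `P` which contain the invariants -/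
theorem eq_top {C : Type u} [CommRing C] (G : Gal Y.D C) (hA : GR A) (hπ : Function.Surjective π)
    (Z : AddSubgroup (X.M.obj ⟨0⟩)) (hinv : ∀ x, X.M.map (lst ⟨0⟩) x = X.M.map (pr ⟨0⟩) x → x ∈ Z)
    (hP : ∀ (q : P), ∀ x ∈ Z, q • x ∈ Z) : Z = ⊤ := by
  rw [eq_top_iff]
  rintro x -
  have hx : x ∈ Submodule.span P {x : X.M.obj ⟨0⟩ | cob X.M 0 x = 0} := by rw [h.span_inv G hA hπ]; trivial
  induction hx using Submodule.span_induction with
  | mem x hx =>
    refine hinv x ?_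
    have : cob X.M 0 x = 0 := hx
    rwa [cob_zero, sub_eq_zero] at this
  | zero => exact zero_mem _
  | add x y _ _ hx hy => exact add_mem hx hy
  | smul q x _ hx => exact hP q x hx

end GFil

/-- every element of `D⟨1⟩` is the value of a formal combination -/
theorem exists_valx (hπ : Function.Surjective π) (d : Y.D.obj (op ⟨1⟩)) : ∃ t, valx Y.j π t = d := by
  classical
  have hadd : ∀ t t' : P →₀ A.obj (op ⟨1⟩), valx Y.j π (t + t') = valx Y.j π t + valx Y.j π t' := fun t t' => by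
    rw [K409.valx, K409.valx, K409.valx, Finsupp.sum_add_index']
    · intro q
      rw [map_zero, zero_mul]
    · intro q r r'
      rw [map_add, add_mul]
  induction d using (K686.bcD Y (pr ⟨0⟩)).induction with
  | zero => exact ⟨0, by rw [K409.valx, Finsupp.sum_zero_index]⟩
  | map d0 =>
    obtain ⟨q, rfl⟩ := hπ d0
    refine ⟨Finsupp.single q 1, ?_⟩
    rw [K409.valx, Finsupp.sum_single_index]
    · rw [map_one, one_mul]
      rfl
    · rw [map_zero, zero_mul]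
  | smul r d hd =>
    obtain ⟨t, rfl⟩ := hd
    refine ⟨r • t, ?_⟩
    rw [K409.valx, Finsupp.sum_smul_index']
    · change (t.sum fun i c => (Y.j.app (op ⟨1⟩)).hom (r * c) * rg Y.D (pr ⟨0⟩) (π i)) =
        (Y.j.app (op ⟨1⟩)).hom r * valx Y.j π t
      rw [K409.valx, Finsupp.mul_sum]
      refine Finset.sum_congr rfl fun q _ => ?_
      change (Y.j.app (op ⟨1⟩)).hom (r * t q) * rg Y.D (pr ⟨0⟩) (π q) =
        (Y.j.app (op ⟨1⟩)).hom r * ((Y.j.app (op ⟨1⟩)).hom (t q) * rg Y.D (pr ⟨0⟩) (π q))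
      rw [map_mul, mul_assoc]
    · intro q
      rw [map_zero, zero_mul]
  | add x y hx hy =>
    obtain ⟨t, ht⟩ := hx
    obtain ⟨t', ht'⟩ := hy
    exact ⟨t + t', by rw [hadd, ht, ht']⟩

/-- from helper409's form -/
theorem GFil.of_smallFil (hπ : Function.Surjective π) (h : K409.SmallFil Y.j π m X.M X.cart X.act F) : GFil Y π X m F where
  zero := h.zero
  last := h.last
  anti := h.anti
  pstab n q x hx := h.pstab n q x hx
  gstab := h.gstab
  ker n q hq x hx := h.ker n q hq x hx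
  semi n q := by
    obtain ⟨t, ht⟩ := exists_valx (Y := Y) hπ (rg Y.D (lst ⟨0⟩) (π q))
    exact ⟨t, ht, fun x hx => h.semi n q t ht x hx⟩

end Fil

end Groth.Agent.ResProp.EF.K566
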