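import Groth.Agent.ResProp.EF.K566.Small
import Groth.Agent.ResProp.EF.K741.Proj

/-!
# `Y ⊗ -` on small objects (c4)

`tensG Y X` : the object `Y ⊗ X`, `P` acting on the right factor. `GSmall.tens` : `X` small implies `Y ⊗ X` small
(`Y` arbitrary; `Y ⊗ -` is right exact and `GSmall` contains the middle terms of exact sequences).
-/

set_option autoImplicit false
set_option linter.dupNamespace false
set_option linter.style.haveILetI false

open CategoryTheory Opposite TensorProduct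

namespace Groth.Agent.ResProp.EF.K566

open K784.BC K784.PM EF56 K477 Groth.Agent.ResProp.EF.K741

universe u

variable {A : NFᵒᵖ ⥤ CommRingCat.{u}} {P : Type u} [CommRing P] [Algebra (A.obj (op ⟨0⟩)) P]

/-- additive maps on a tensor product which agree on pure tensors agree -/
theorem tens_ext {R : Type*} [CommRing R] {M N Q : Type*} [AddCommGroup M] [Module R M] [AddCommGroup N] [Module R N]
    [AddCommGroup Q] (F G : M ⊗[R] N →+ Q) (h : ∀ m n, F (m ⊗ₜ n) = G (m ⊗ₜ n)) (z : M ⊗[R] N) : F z = G z := by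
  induction z using TensorProduct.induction_on with
  | zero => rw [map_zero, map_zero]
  | tmul y x => exact h y x
  | add z w hz hw => rw [map_add, map_add, hz, hw]

section Tens

variable (Y : PM.{u} A) (hY : Y.Cart)

/-- the action on the right factor -/
noncomputable def actT (X : GObj A P) : P →ₐ[A.obj (op ⟨0⟩)] Module.End (A.obj (op ⟨0⟩)) (Y.obj ⟨0⟩ ⊗[A.obj (op ⟨0⟩)] X.M.obj ⟨0⟩) :=
  (Module.End.lTensorAlgHom (A.obj (op ⟨0⟩)) (X.M.obj ⟨0⟩) (Y.obj ⟨0⟩)).comp
    (Algebra.lsmul (A.obj (op ⟨0⟩)) (A.obj (op ⟨0⟩)) (X.M.obj ⟨0⟩))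

@[reducible] noncomputable def modT (X : GObj A P) : Module P (Y.obj ⟨0⟩ ⊗[A.obj (op ⟨0⟩)] X.M.obj ⟨0⟩) :=
  Module.compHom _ (actT Y X).toRingHom

theorem modT_tmul (X : GObj A P) (q : P) (y : Y.obj ⟨0⟩) (x : X.M.obj ⟨0⟩) :
    letI := modT Y X
    q • (y ⊗ₜ[A.obj (op ⟨0⟩)] x) = y ⊗ₜ[A.obj (op ⟨0⟩)] (q • x) := rfl

theorem towerT (X : GObj A P) : letI := modT Y X
    IsScalarTower (A.obj (op ⟨0⟩)) P (Y.obj ⟨0⟩ ⊗[A.obj (op ⟨0⟩)] X.M.obj ⟨0⟩) :=
  letI := modT Y X
  ⟨fun r q z => congrArg (fun f : Module.End (A.obj (op ⟨0⟩)) (Y.obj ⟨0⟩ ⊗[A.obj (op ⟨0⟩)] X.M.obj ⟨0⟩) => f z)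
    (map_smul (actT Y X) r q)⟩

/-- `Y ⊗ X` -/
noncomputable def tensG (X : GObj A P) : GObj A P :=
  letI md : Module P ((K741.tenPM Y X.M).obj ⟨0⟩) := modT Y X
  haveI tw : IsScalarTower (A.obj (op ⟨0⟩)) P ((K741.tenPM Y X.M).obj ⟨0⟩) := towerT Y X
  { M := K741.tenPM Y X.M
    cart := K741.tenPM_cart hY X.cart
    pm := md
    tw := tw }

/-- `Y ⊗ g` -/
noncomputable def tensMap {X X' : GObj A P} (g : GHom X X') : GHom (tensG Y hY X) (tensG Y hY X') where
  f a := LinearMap.lTensor (Y.obj a) (g.f a)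
  nat {a b} φ z := tens_ext ((LinearMap.lTensor (Y.obj a) (g.f a)).toAddMonoidHom.comp ((K741.tenPM Y X.M).map φ))
    (((K741.tenPM Y X'.M).map φ).comp (LinearMap.lTensor (Y.obj b) (g.f b)).toAddMonoidHom) (fun y x => by
      change LinearMap.lTensor (Y.obj a) (g.f a) (Y.map φ y ⊗ₜ X.M.map φ x) = Y.map φ y ⊗ₜ X'.M.map φ (g.f b x)
      rw [LinearMap.lTensor_tmul, g.nat]) z
  pl q z := tens_ext ((LinearMap.lTensor (Y.obj ⟨0⟩) (g.f ⟨0⟩)).toAddMonoidHom.comp (actT Y X q).toAddMonoidHom)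
    ((actT Y X' q).toAddMonoidHom.comp (LinearMap.lTensor (Y.obj ⟨0⟩) (g.f ⟨0⟩)).toAddMonoidHom) (fun y x => by
      change LinearMap.lTensor (Y.obj ⟨0⟩) (g.f ⟨0⟩) (y ⊗ₜ (q • x)) = y ⊗ₜ (q • g.f ⟨0⟩ x)
      rw [LinearMap.lTensor_tmul, g.pl]) z

variable {D : NFᵒᵖ ⥤ CommRingCat.{u}} {j : A ⟶ D} {π : P →+* D.obj (op ⟨0⟩)}

/-- multiplication by `D⟨a⟩` is `A⟨a⟩`-linear -/
noncomputable def GPure.mul {X : GObj A P} (hX : GPure j π X) (a : NF) : D.obj (op a) →+* Module.End (A.obj (op a)) (X.M.obj a) :=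
  letI := hX.md a
  { toFun := fun d =>
      { toFun := fun m => d • m
        map_add' := smul_add d
        map_smul' := fun r m => by
          have h1 := hX.tower a r m
          have h2 := hX.tower a r (d • m)
          change d • (r • m) = r • (d • m)
          rw [← h1, ← h2]
          change d • ((j.app (op a)).hom r • m) = (j.app (op a)).hom r • (d • m)
          rw [smul_comm] }
    map_one' := LinearMap.ext fun m => one_smul _ m
    map_mul' := fun d e => LinearMap.ext fun m => mul_smul d e m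
    map_zero' := LinearMap.ext fun m => zero_smul _ m
    map_add' := fun d e => LinearMap.ext fun m => add_smul d e m }

/-- pure objects are stable under `Y ⊗ -` -/
noncomputable def GPure.tens {X : GObj A P} (hX : GPure j π X) : GPure j π (tensG Y hY X) where
  md a := Module.compHom (Y.obj a ⊗[A.obj (op a)] X.M.obj a)
    ((Module.End.lTensorAlgHom (A.obj (op a)) (X.M.obj a) (Y.obj a)).toRingHom.comp (hX.mul a))
  tower a r z := by
    change LinearMap.lTensor (Y.obj a) (hX.mul a ((j.app (op a)).hom r)) z = r • z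
    have h : hX.mul a ((j.app (op a)).hom r) = r • LinearMap.id := LinearMap.ext fun m => hX.tower a r m
    rw [h, LinearMap.lTensor_smul, LinearMap.lTensor_id]
    rfl
  map_smul {a b} φ d z := by
    change (K741.tenPM Y X.M).map φ (LinearMap.lTensor (Y.obj b) (hX.mul b d) z) =
      LinearMap.lTensor (Y.obj a) (hX.mul a (rg D φ d)) ((K741.tenPM Y X.M).map φ z)
    exact tens_ext (((K741.tenPM Y X.M).map φ).comp (LinearMap.lTensor (Y.obj b) (hX.mul b d)).toAddMonoidHom)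
      ((LinearMap.lTensor (Y.obj a) (hX.mul a (rg D φ d))).toAddMonoidHom.comp ((K741.tenPM Y X.M).map φ)) (fun y x =>
        congrArg (fun w => Y.map φ y ⊗ₜ w) (hX.map_smul φ d x)) z
  act q z := by
    change LinearMap.lTensor (Y.obj ⟨0⟩) (Algebra.lsmul (A.obj (op ⟨0⟩)) (A.obj (op ⟨0⟩)) (X.M.obj ⟨0⟩) q) z =
      LinearMap.lTensor (Y.obj ⟨0⟩) (hX.mul ⟨0⟩ (π q)) z
    have h : Algebra.lsmul (A.obj (op ⟨0⟩)) (A.obj (op ⟨0⟩)) (X.M.obj ⟨0⟩) q = hX.mul ⟨0⟩ (π q) :=
      LinearMap.ext fun m => hX.act q m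
    rw [h]

/-- **small objects are stable under `Y ⊗ -`** -/
theorem GSmall.tens (hA : GR A) (hj : CartHom j) (hπ : Function.Surjective π) {X : GObj A P} (h : GSmall j π X) :
    GSmall j π (tensG Y hY X) := by
  induction h with
  | zero X hX =>
    refine .zero _ ⟨fun z w => ?_⟩
    have h0 : ∀ z : Y.obj ⟨0⟩ ⊗[A.obj (op ⟨0⟩)] X.M.obj ⟨0⟩, z = 0 := by
      intro z
      induction z using TensorProduct.induction_on with
      | zero => rfl
      | tmul y x => rw [Subsingleton.elim x 0, TensorProduct.tmul_zero]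
      | add z w hz hw => rw [hz, hw, add_zero]
    exact (h0 z).trans (h0 w).symm
  | pure X hX => exact .pure _ (hX.map fun hX => hX.tens Y hY)
  | ext X' X X'' u q hu huq hq _ _ ih' ih'' =>
    exact GSmall.mid hA hj hπ ih' ih'' (tensMap Y hY u) (tensMap Y hY q) (lTensor_exact (Y.obj ⟨0⟩) huq hq)

end Tens

end Groth.Agent.ResProp.EF.K566
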